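import Cfsg.Agent.Wr3.D8

/-! Doubling: planes, twisted lines, non-quadratic four-groups. -/

set_option autoImplicit false
set_option linter.unusedSectionVars false

namespace Cfsg.Agent.Wr

open Subgroup

variable {M G : Type*} [Group M] [Group G]

/-- the first half of `Anti` -/
def Com (t : G) (f : M → G) (d e : M) : Prop := t * f d * (t * f e) = t * f e * (t * f d)

/-- additive up to `ι w` -/
def TAd (ι : M →* G) (f : M → G) (d e w : M) : Prop := f d * f e = f (d * e) * ι w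

/-- `Anti` up to `ι w` -/
def TAn (ι : M →* G) (t : G) (f : M → G) (d e w : M) : Prop :=
  Com t f d e ∧ t * f (d * e) * (t * f e) * (t * f d) = ι w

theorem tad_one {ι : M →* G} {f : M → G} {d e : M} : TAd ι f d e 1 ↔ f (d * e) = f d * f e := by
  rw [TAd, map_one, mul_one, eq_comm]

theorem tan_one {ι : M →* G} {t : G} {f : M → G} {d e : M} : TAn ι t f d e 1 ↔ Anti t f d e := by
  rw [TAn, map_one]; rfl

theorem D8.mv {F x y : G} (e : F * x * F = y) (h : F * F = 1) (w : G) : F * (x * w) = y * (F * w) := by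
  rw [← e, mul_assoc _ F, ← mul_assoc F F, h, one_mul, mul_assoc]

theorem D8.sw {x y : G} (e : x * y = y * x) (w : G) : x * (y * w) = y * (x * w) := by
  rw [← mul_assoc, e, mul_assoc]

namespace Dbl
variable {ι : M →* G} {t : G} {z : M} {f : M → G} (h : Dbl ι t z f)
include h

theorem tad_conj {d e w : M} (hd : Cl z d) (he : Cl z e) (hde : Cl z (d * e)) (ha : TAd ι f d e w)
    (k : M) : TAd ι f (k * d * k⁻¹) (k * e * k⁻¹) (k * w * k⁻¹) := by
  unfold TAd at *
  rw [show k * d * k⁻¹ * (k * e * k⁻¹) = k * (d * e) * k⁻¹ by group, h.eqv _ _ hd, h.eqv _ _ he,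
    h.eqv _ _ hde, map_mul, map_mul, map_inv,
    show ι k * f d * (ι k)⁻¹ * (ι k * f e * (ι k)⁻¹) = ι k * (f d * f e) * (ι k)⁻¹ by group, ha]
  group

theorem tan_conj {d e w : M} (hd : Cl z d) (he : Cl z e) (hde : Cl z (d * e)) (ha : TAn ι t f d e w)
    (k : M) : TAn ι t f (k * d * k⁻¹) (k * e * k⁻¹) (k * w * k⁻¹) := by
  have tc : ∀ x, t * (ι k * x * (ι k)⁻¹) = ι k * (t * x) * (ι k)⁻¹ := fun x => by
    rw [← mul_assoc (ι k), ← h.tA]; group
  unfold TAn Com
  rw [show k * d * k⁻¹ * (k * e * k⁻¹) = k * (d * e) * k⁻¹ by group, h.eqv _ _ hd, h.eqv _ _ he,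
    h.eqv _ _ hde, tc, tc, tc]
  refine ⟨conj_comm ha.1, ?_⟩
  rw [show ∀ a b c : G, ι k * a * (ι k)⁻¹ * (ι k * b * (ι k)⁻¹) * (ι k * c * (ι k)⁻¹) =
    ι k * (a * b * c) * (ι k)⁻¹ from fun a b c => by group, ha.2, map_mul, map_mul, map_inv]

/-- `(f d * f e)² = 1` -/
theorem tad_com {d e w : M} (hd : Cl z d) (he : Cl z e) (hde : Cl z (d * e)) (w2 : w * w = 1)
    (c : w * (d * e) = d * e * w) (ha : TAd ι f d e w) : f d * f e = f e * f d := by
  refine D8.cm (h.ff hd) (h.ff he) ?_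
  rw [ha, mul_assoc, ← mul_assoc (ι w), h.cf hde c, mul_assoc, ← map_mul, w2, map_one, mul_one,
    h.ff hde]

/-- PROOF (as `line`). `X = f (d e) * f d * f e` centralises `t` (`xt`) and `ι S`, so `X = ι k` or `ι k * t` with `k` in the
list of `hV` (`cen`).  Conjugation by `ι ρ` gives `f d * f e * f (d e) = f (d e) * X * f (d e)`.  If `X = ι k` then `ρ` fixes `k`,
so `k = 1` or `k = w`.  If `X = ι k * t` then `ρ k ρ⁻¹ = k * (d e)`, so `k = d w'`, `w' = 1` or `w`;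
`f d * f e * f (d e) = ι (e w') t`, whence `t f (d e) * t f e * t f d = ι w'` (`tf`, `tft`, `cf`) and `Com`. -/
theorem lineP {d e w ρ : M} (hd : Cl z d) (he : Cl z e) (hde : Cl z (d * e)) (hc : d * e = e * d)
    (w2 : w * w = 1) (wd : w * d = d * w) (we : w * e = e * w)
    (ne : d ≠ 1 ∧ e ≠ 1 ∧ d ≠ e)
    (r1 : ρ * d * ρ⁻¹ = e) (r2 : ρ * e * ρ⁻¹ = d * e) (r3 : ρ * w * ρ⁻¹ = w)
    {S : Set M} (hS : ∀ c ∈ S, c * d = d * c ∧ c * e = e * c)
    (hV : ∀ x, (∀ c ∈ S, c * x = x * c) → ∃ y, (y = 1 ∨ y = d ∨ y = e ∨ y = d * e) ∧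
      (x = y ∨ x = y * w)) :
    ∃ w', (w' = 1 ∨ w' = w) ∧ (TAd ι f d e w' ∨ TAn ι t f d e w') := by
  have dd := h.sq hd
  have ee := h.sq he
  have r4 : ρ * (d * e) * ρ⁻¹ = d := by
    rw [show ρ * (d * e) * ρ⁻¹ = ρ * d * ρ⁻¹ * (ρ * e * ρ⁻¹) by group, r1, r2, hc, ← mul_assoc, ee,
      one_mul]
  have cde : ∀ c, c * d = d * c → c * e = e * c → c * (d * e) = d * e * c := fun c a b =>
    (Commute.mul_right a b : Commute c _)
  obtain ⟨u, ⟨y, hy, hu⟩, hx⟩ := h.cen (h.xt hd he hde hc) (P := (· ∈ S)) (fun c hc' =>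
    ((Commute.mul_right (h.cf hde (cde c (hS c hc').1 (hS c hc').2)) (h.cf hd (hS c hc').1) :
      Commute (ι c) _).mul_right (h.cf he (hS c hc').2)).eq) hV
  obtain ⟨v, hv, rfl⟩ : ∃ v, (v = 1 ∨ v = w) ∧ u = y * v :=
    hu.elim (fun e => ⟨1, .inl rfl, by rw [e, mul_one]⟩) fun e => ⟨w, .inr rfl, e⟩
  obtain ⟨v2, vd, ve, vr⟩ : v * v = 1 ∧ v * d = d * v ∧ v * e = e * v ∧ ρ * v * ρ⁻¹ = v := by
    rcases hv with rfl | rfl
    exacts [by simp, ⟨w2, wd, we, r3⟩]
  have yc : y * (d * e) = d * e * y := by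
    rcases hy with rfl | rfl | rfl | rfl
    exacts [by simp, cde _ rfl hc, cde _ hc.symm rfl, rfl]
  have uc := h.cf hde ((Commute.mul_left yc (cde v vd ve) : Commute (y * v) _).eq)
  have q : ι ρ * (f (d * e) * f d * f e) * (ι ρ)⁻¹ = f d * f e * f (d * e) := by
    have q1 := h.eqv ρ d hd
    have q2 := h.eqv ρ e he
    have q3 := h.eqv ρ _ hde
    rw [r1] at q1
    rw [r2] at q2
    rw [r4] at q3
    calc _ = ι ρ * f (d * e) * (ι ρ)⁻¹ * (ι ρ * f d * (ι ρ)⁻¹) * (ι ρ * f e * (ι ρ)⁻¹) := by group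
      _ = _ := by rw [← q1, ← q2, ← q3]
  have q' : f d * f e * f (d * e) = f (d * e) * (f (d * e) * f d * f e) * f (d * e) := by
    rw [← mul_assoc, ← mul_assoc, h.ff hde, one_mul]
  have cv : ρ * (y * v) * ρ⁻¹ = ρ * y * ρ⁻¹ * v := by
    conv_rhs => rw [← vr]
    group
  refine ⟨v, hv, ?_⟩
  rcases hx with hx | hx
  · left
    rw [q', hx, ← uc, mul_assoc (ι (y * v)), h.ff hde, mul_one, ← map_inv, ← map_mul, ← map_mul,
      h.inj.eq_iff, cv, mul_left_inj] at q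
    obtain rfl : y = 1 := by
      rcases hy with rfl | rfl | rfl | rfl
      · rfl
      · exact absurd (q.symm.trans r1) ne.2.2
      · exact absurd (mul_eq_right.1 (r2.symm.trans q)) ne.1
      · exact absurd (mul_eq_left.1 (q.symm.trans r4)) ne.2.1
    rw [one_mul] at hx
    rw [TAd, ← hx, ← mul_assoc, ← mul_assoc, h.ff hde, one_mul]
  · right
    have q0 : f d * f e * f (d * e) = ι (ρ * y * ρ⁻¹ * v) * t := by
      rw [← q, hx, ← cv, map_mul ι _ ρ⁻¹, map_mul ι ρ, mul_assoc _ _ t, ← h.tA ρ⁻¹, map_inv]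
      group
    rw [q0, hx, ← mul_assoc, ← uc, mul_assoc (ι _), mul_assoc (ι _), h.fft hde, h.tA, ← mul_assoc,
      ← map_mul, mul_left_inj, h.inj.eq_iff, mul_assoc y, cde v vd ve, ← mul_assoc,
      mul_left_inj] at q'
    obtain rfl : y = d := by
      rcases hy with rfl | rfl | rfl | rfl
      · refine absurd ?_ ne.2.2
        rw [mul_one, mul_inv_cancel, one_mul] at q'
        exact (eq_inv_of_mul_eq_one_left q'.symm).trans (inv_eq_of_sq ee)
      · rfl
      · rw [r2, hc, ← mul_assoc, ee, one_mul] at q'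
        exact absurd (mul_eq_right.1 q') ne.2.1
      · rw [r4, h.sq hde] at q'
        exact absurd q' ne.1
    rw [r1] at q0
    have e1 : f y * f e = ι e * ι v * t * f (y * e) := by
      rw [← map_mul, ← q0, mul_assoc, h.ff hde, mul_one]
    have e2 : f e * f y = ι y * ι v * t * f (y * e) := by
      have := congrArg (·⁻¹) hx
      simp only [mul_inv_rev, map_mul, inv_eq_of_sq (h.ff hd), inv_eq_of_sq (h.ff he),
        inv_eq_of_sq (h.ff hde), inv_eq_of_sq h.tt, inv_eq_of_sq (h.ιι hd), ← map_inv,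
        inv_eq_of_sq v2] at this
      rw [← mul_one (f e * f y), ← h.ff hde, ← mul_assoc, mul_assoc (f e), this, h.cι vd,
        ← map_mul, h.tA]
    have vv : ι v * ι v = 1 := by rw [← map_mul, v2, map_one]
    constructor <;> refine D8.one ?_ <;>
      simp only [mul_assoc, map_mul, D8.lc e1, D8.lc e2, D8.lc (h.tf hd), D8.lc (h.tf he),
        D8.lc (h.tf hde), fun a => D8.sw (h.tA a), D8.sw (h.cf hd rfl).symm,
        D8.sw (h.cf hd hc.symm).symm, D8.sw (h.cf hd vd).symm, D8.sw (h.cf he rfl).symm,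
        D8.sw (h.cf he hc).symm, D8.sw (h.cf he ve).symm, D8.sw (h.cf hde (cde _ rfl hc)).symm,
        D8.sw (h.cf hde (cde _ hc.symm rfl)).symm, D8.sw (h.cf hde (cde _ vd ve)).symm,
        D8.sw (h.cι hc.symm), D8.sw (h.cι vd), D8.sw (h.cι ve), D8.l1 h.tt, D8.l1 (h.ff hd),
        D8.l1 (h.ff he), D8.l1 (h.ff hde), D8.l1 (h.ιι hd), D8.l1 (h.ιι he), D8.l1 vv]

/-- `anti2` needs only `Com` -/
theorem com2 {d q c : M} (hc : Cl z c) (a1 : Com t f d q) (a2 : Com t f (d * c) q)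
    (e1 : f (d * c) = f d * f c) (e2 : f q * f c = f c * f q) : c = 1 := by
  have c1 : Commute (t * f d) (t * f q) := a1
  have c2 : Commute (t * f (d * c)) (t * f q) := a2
  have c3 : Commute (f c) (t * f q) := by simpa [e1, mul_assoc] using c1.inv_left.mul_left c2
  exact h.eq_one_of_comm hc (by simpa using (c3.mul_right (Commute.inv_right e2.symm)).symm.eq)

/-- `t f c` commutes with `t f a`, `t f a f b (ι w)⁻¹`, `ι w`, so with `f b`, and with `t f b`, so with `t` -/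
theorem com3 {a b c w : M} (hc : Cl z c) (a1 : Com t f c a) (a2 : Com t f c b) (a3 : Com t f c (a * b))
    (e : TAd ι f a b w) (cw : w * c = c * w) : c = 1 := by
  have c1 : Commute (t * f c) (t * f a) := a1
  have c2 : Commute (t * f c) (t * f b) := a2
  have c3 : Commute (t * f c) (t * f (a * b)) := a3
  have c4 := c3.mul_right (Commute.mul_left (h.tA w) (h.cf hc cw).symm : Commute (t * f c) (ι w))
  rw [mul_assoc, ← e, ← mul_assoc] at c4
  have c5 := c1.inv_right.mul_right c4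
  rw [inv_mul_cancel_left] at c5
  have c6 := (c2.mul_right c5.inv_right).eq
  rw [mul_inv_cancel_right, mul_assoc] at c6
  exact h.eq_one_of_comm hc (mul_left_cancel c6).symm

/-- With `D x = t * f x` (`D x * D x = ι x`): `D a, D b, D c` commute, `D (c a) = (D a D c)⁻¹`, `D (c b) = (D b D c)⁻¹`, and
`D b D a = D (c b) D (c a)`. -/
theorem com4 {a b c w : M} (ha : Cl z a) (hb : Cl z b) (hc : Cl z c) (ca : c * a = a * c)
    (a1 : Anti t f c a) (a2 : Anti t f c b) (a3 : TAn ι t f a b w) (a4 : TAn ι t f (c * a) (c * b) w) :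
    a * b * c = 1 := by
  have xx : ∀ {a}, Cl z a → t * f a * (t * f a) = ι a := fun {a} ha => by
    rw [← mul_assoc, h.tft ha, ← h.cf ha rfl, mul_assoc, h.ff ha, mul_one]
  apply h.inj
  rw [map_mul, map_mul, map_one, ← xx ha, ← xx hb, ← xx hc]
  obtain ⟨c1, e1⟩ := a1
  obtain ⟨c2, e2⟩ := a2
  obtain ⟨c3, e3⟩ := a3
  obtain ⟨-, e4⟩ := a4
  unfold Com at c3
  rw [show c * a * (c * b) = a * b by rw [ca, mul_assoc, ← mul_assoc c, h.sq hc, one_mul], ← e3,
    mul_assoc, mul_assoc (t * f (a * b)), mul_right_inj] at e4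
  rw [mul_assoc] at e1 e2
  rw [eq_inv_of_mul_eq_one_left e1, eq_inv_of_mul_eq_one_left e2, ← mul_inv_rev,
    inv_eq_iff_mul_eq_one] at e4
  generalize t * f a = x at *
  generalize t * f b = y at *
  generalize t * f c = u at *
  rw [← e4]
  exact D8.one (by simp only [mul_assoc, D8.sw c1, D8.sw c2, D8.sw c3.symm])

/-- PROOF. Transport `l1`, `l2` by the `kᵢ` (`add_conj`, `anti_conj`, `tan_conj`); `com2` (`d = a`, `q = b`), `com3`, `com4`. -/
theorem plane {a b c w k₁ k₂ k₃ k₄ : M} (ha : Cl z a) (hb : Cl z b) (hc : Cl z c)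
    (hab : Cl z (a * b)) (hca : Cl z (c * a)) (ca : c * a = a * c) (c1 : c ≠ 1) (n1 : a * b * c ≠ 1)
    (l1 : f (c * a) = f c * f a ∨ Anti t f c a) (hw : w = 1 ∨ w = c)
    (l2 : TAd ι f a b w ∨ TAn ι t f a b w)
    (e1 : k₁ * c * k₁⁻¹ = c ∧ k₁ * a * k₁⁻¹ = b) (e2 : k₂ * c * k₂⁻¹ = c ∧ k₂ * a * k₂⁻¹ = a * b)
    (e3 : k₃ * c * k₃⁻¹ = c ∧ k₃ * a * k₃⁻¹ = c * a ∧ k₃ * b * k₃⁻¹ = c * b)
    (e4 : k₄ * c * k₄⁻¹ = c ∧ k₄ * a * k₄⁻¹ = a * c ∧ k₄ * b * k₄⁻¹ = b) :
    f (c * a) = f c * f a ∧ TAd ι f a b w := by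
  have hk : ∀ {k}, k * c * k⁻¹ = c → k * w * k⁻¹ = w := fun e => by
    rcases hw with rfl | rfl
    exacts [by simp, e]
  rcases l1 with l1 | l1
  · refine ⟨l1, l2.resolve_right fun l2 => c1 ?_⟩
    have b1 := h.add_conj hc ha hca l1 k₁
    have b2 := h.tan_conj ha hb hab l2 k₄
    have b3 := hca.conj k₁
    rw [show k₁ * (c * a) * k₁⁻¹ = k₁ * c * k₁⁻¹ * (k₁ * a * k₁⁻¹) by group] at b3
    rw [e1.1, e1.2] at b1 b3
    rw [e4.2.1, e4.2.2] at b2
    exact h.com2 hc l2.1 b2.1 (by rw [← ca, l1, (h.add_symm hc ha hca ca l1).1])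
      (D8.cm (h.ff hc) (h.ff hb) (b1 ▸ h.ff b3)).symm
  · exfalso
    have b1 := h.anti_conj hc ha hca l1 k₁
    rw [e1.1, e1.2] at b1
    rcases l2 with l2 | l2
    · have b2 := h.anti_conj hc ha hca l1 k₂
      rw [e2.1, e2.2] at b2
      refine c1 (h.com3 hc l1.1 b1.1 b2.1 l2 ?_)
      rcases hw with rfl | rfl
      exacts [by simp, rfl]
    · have b2 := h.tan_conj ha hb hab l2 k₃
      rw [e3.2.1, e3.2.2, hk e3.1] at b2
      exact n1 (h.com4 ha hb hc ca l1 b1 l2 b2)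

/-- `(f a f b) (f a f c) = f b f c` -/
theorem quad {a b c w₁ w₂ w₃ w₄ : M} (ha : Cl z a) (hac : Cl z (a * c)) (ab : a * b = b * a)
    (cm : f a * f b = f b * f a) (e1 : TAd ι f a b w₁) (e2 : TAd ι f a c w₂) (e3 : TAd ι f b c w₃)
    (e4 : TAd ι f (a * b) (a * c) w₄) (c1 : w₁ * (a * c) = a * c * w₁) : w₄ * w₁ * w₂ = w₃ := by
  unfold TAd at *
  have e5 : f a * f b * (f a * f c) = f b * f c := by
    rw [cm, mul_assoc, ← mul_assoc (f a), h.ff ha, one_mul]
  rw [show a * b * (a * c) = b * c by rw [ab, mul_assoc, ← mul_assoc a, h.sq ha, one_mul]] at e4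
  rw [e1, e2, e3, mul_assoc, ← mul_assoc (ι w₁), h.cf hac c1, ← mul_assoc, ← mul_assoc, e4,
    mul_assoc, mul_assoc, mul_right_inj, ← map_mul, ← map_mul, ← mul_assoc] at e5
  exact h.inj e5

/-- the same `k` for the pair `e, d` (conjugate by `f d`; `e d e d = c` as `c c = 1`) -/
theorem d8_symm {d e c k : M} (hd : Cl z d) (he : Cl z e) (hc : Cl z c) (ec : d * e * (d * e) = c)
    (ed : f (d * c) = f d * f c) (hk : f d * f e * (f d * f e) * f c = ι k) (kd : k * d = d * k) :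
    e * d * (e * d) = c ∧ f e * f d * (f e * f d) * f c = ι k := by
  have dd := D8.l1 (h.sq hd)
  have ee := D8.l1 (h.sq he)
  have a1 : e * d * e⁻¹ = d * c := D8.one (by simp only [← ec, mul_assoc, dd, ee])
  have b := h.ff (hd.conj e)
  rw [a1, ed] at b
  constructor
  · rw [← inv_eq_of_sq (h.sq hc), ← ec]
    simp only [mul_inv_rev, dd, ee]
  · rw [← mul_one (ι k), ← h.ff hd, ← mul_assoc (ι k), h.cf hd kd, ← hk]
    exact D8.one (by simp only [mul_assoc, D8.l1 (h.ff hd), D8.sw (D8.cm (h.ff hd) (h.ff hc) b)])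

/-- the element `k` of `d8_3` is fixed by an element interchanging `d` and `e` -/
theorem d8_swap {d e c k p : M} (hd : Cl z d) (he : Cl z e) (hc : Cl z c) (ec : d * e * (d * e) = c)
    (ed : f (d * c) = f d * f c) (hk : f d * f e * (f d * f e) * f c = ι k) (kd : k * d = d * k)
    (p1 : p * d * p⁻¹ = e) (p2 : p * e * p⁻¹ = d) : p * k = k * p := by
  obtain ⟨a1, a2⟩ := h.d8_symm hd he hc ec ed hk kd
  have p3 : p * c * p⁻¹ = c := by
    conv_lhs => rw [← ec]
    rw [← a1]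
    conv_rhs => rw [← p2]
    conv_rhs => enter [1, 1]; rw [← p1]
    conv_rhs => enter [2, 1]; rw [← p1]
    group
  have q1 := h.eqv p d hd
  have q2 := h.eqv p e he
  have q3 := h.eqv p c hc
  rw [p1] at q1
  rw [p2] at q2
  rw [p3] at q3
  refine conj_eq_iff.1 (h.inj ?_)
  rw [map_mul, map_mul, map_inv]
  conv_lhs => rw [← hk]
  rw [← a2]
  calc _ = ι p * f d * (ι p)⁻¹ * (ι p * f e * (ι p)⁻¹) * (ι p * f d * (ι p)⁻¹ * (ι p * f e * (ι p)⁻¹)) *
      (ι p * f c * (ι p)⁻¹) := by group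
    _ = _ := by rw [← q1, ← q2, ← q3]

/-- PROOF. `A = f (r s) = f r f s = f s f r`; `f s f a f s = f a f g ι k`.  Compute `y = A (f a) A t A (f a) A` twice, with `fft`, `cf`
and `d8_1` for the pairs `(r s, a)`, `(r, a)`, `(r, g)`.  First `A t A = t ι (r s)`, `y = t ι (r s a r s)`.  Second
`A (f a) A = f r (f a f g ι k) f r`; conjugating `t` successively: `t ι r`, `t ι (r k')` (`k r k = r k'`), `t ι g ι r f g' ι k'`,
`t ι a ι g ι r f c f g' ι k'`, `t ι r (ι a f c) (ι g f g') ι r f c f g' ι k' = t ι (r a g r) ι k'`.  And `s a s = a g`. -/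
theorem nq {r s a g c g' c' k : M} (hr : Cl z r) (hs : Cl z s) (ha : Cl z a) (hg : Cl z g) (hc : Cl z c)
    (hg' : Cl z g') (hc' : Cl z c') (hrs : Cl z (r * s)) (rs : r * s = s * r)
    (e0 : f (r * s) = f r * f s) (q1 : s * a * (s * a) = g) (q2 : r * a * (r * a) = c)
    (q3 : r * g * (r * g) = g') (q4 : r * s * a * (r * s * a) = c')
    (l1 : f (s * g) = f s * f g) (l2 : f (a * g) = f a * f g) (l3 : f (r * c) = f r * f c)
    (l4 : f (a * c) = f a * f c) (l5 : f (r * g') = f r * f g') (l6 : f (g * g') = f g * f g')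
    (l7 : f (r * s * c') = f (r * s) * f c') (l8 : f (a * c') = f a * f c')
    (m1 : f a * f g' = f g' * f a) (m2 : f c * f g' = f g' * f c) (cg : c * g = g * c)
    (hk : f s * f a * (f s * f a) * f g = ι k) (k2 : k * k = 1) (ks : k * s = s * k) (ka : k * a = a * k)
    (k3 : r * k * (r * k) * g = g * (r * k * (r * k))) (k4 : r * k * (r * k) * a = a * (r * k * (r * k)))
    (k5 : r * k * (r * k) * r = r * (r * k * (r * k))) : r * k = k * r := by
  have cc : ∀ {d e c : M}, Cl z d → Cl z e → Cl z c → d * e * (d * e) = c →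
      d * c = c * d ∧ e * c = c * e := fun {d e c} hd he hc ec => by
    have dd := D8.l1 (h.sq hd)
    have ee := D8.l1 (h.sq he)
    have a1 : e * d * e⁻¹ = d * c := D8.one (by simp only [← ec, mul_assoc, dd, ee])
    have a2 : d * e * d⁻¹ = c * e := D8.one (by simp only [← ec, mul_assoc, dd, ee])
    exact ⟨D8.cm (h.sq hd) (h.sq hc) (a1 ▸ h.sq (hd.conj e)),
      (D8.cm (h.sq hc) (h.sq he) (a2 ▸ h.sq (he.conj d))).symm⟩
  obtain ⟨x1, x2, x3, -⟩ := h.d8_1 hrs ha hc' q4 l7 l8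
  obtain ⟨y1, y2, y3, -⟩ := h.d8_1 hr ha hc q2 l3 l4
  obtain ⟨z1, z2, z3, -⟩ := h.d8_1 hr hg hg' q3 l5 l6
  have RS := (h.add_symm hr hs hrs rs e0).1
  have kk : ι k * ι k = 1 := by rw [← map_mul, k2, map_one]
  have u1 : f s * f a * f s = ι k * f g * f a := by
    rw [← hk]
    exact D8.one (by simp only [mul_assoc, D8.l1 (h.ff ha), D8.l1 (h.ff hg)])
  have u2 : f s * f a * f s = f a * f g * ι k := by
    have := congrArg (·⁻¹) u1
    simpa only [mul_inv_rev, D8.l1 (h.ff ha), D8.l1 (h.ff hg), D8.l1 (h.ff hs), D8.l1 kk,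
      mul_assoc] using this
  have w1 : f (r * s) * (f a * (f (r * s) * t * f (r * s)) * f a) * f (r * s) =
      t * ι (r * s) * ι a * ι (r * s) := by
    rw [h.fft hrs]
    exact D8.one (by simp only [mul_assoc, D8.mv (h.fft ha) (h.ff ha), D8.mv x2 (h.ff ha),
      D8.l1 (h.ff ha), D8.mv (h.fft hrs) (h.ff hrs), D8.mv x1 (h.ff hrs), D8.sw (h.cf hrs rfl).symm,
      D8.sw x3, D8.l1 (h.ff hrs), D8.sw (h.cf hc' (cc hrs ha hc' q4).1).symm, D8.l1 (h.ff hc')])
  have w2 : f (r * s) * (f a * (f (r * s) * t * f (r * s)) * f a) * f (r * s) =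
      f r * (f a * (f g * (ι k * (f r * t * f r) * ι k) * f g) * f a) * f r :=
    calc _ = f r * (f s * f a * f s) * (f r * t * f r) * (f s * f a * f s) * f r := by
          rw [e0]
          exact D8.one (by simp only [mul_assoc, D8.sw RS])
      _ = _ := by
          nth_rewrite 1 [u2]
          rw [u1]
          simp only [mul_assoc]
  have s1 : ι k * (t * ι r) * ι k = t * ι r * ι (r * k * (r * k)) := by
    rw [← mul_assoc, ← h.tA]
    exact D8.one (by simp only [mul_assoc, map_mul, D8.l1 (h.ιι hr)])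
  rw [h.fft hr, s1] at w2
  generalize hk' : r * k * (r * k) = k' at *
  have w3 : f r * (f a * (f g * (t * ι r * ι k') * f g) * f a) * f r =
      t * ι r * ι a * ι g * ι r * ι k' := by
    have s2 : f g * (t * ι r * ι k') * f g = t * ι g * ι r * f g' * ι k' :=
      D8.one (by simp only [mul_assoc, D8.mv (h.fft hg) (h.ff hg), D8.mv z2 (h.ff hg),
        D8.sw (h.cf hg k3).symm, D8.l1 (h.ff hg)])
    have s3 : f a * (t * ι g * ι r * f g' * ι k') * f a = t * ι a * ι g * ι r * f c * f g' * ι k' :=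
      D8.one (by simp only [mul_assoc, D8.mv (h.fft ha) (h.ff ha), D8.mv y2 (h.ff ha),
        D8.sw (h.cf ha (cc hs ha hg q1).2.symm).symm, D8.sw m1, D8.sw (h.cf ha k4).symm,
        D8.l1 (h.ff ha)])
    rw [s2, s3]
    exact D8.one (by simp only [mul_assoc, D8.mv (h.fft hr) (h.ff hr), D8.mv y1 (h.ff hr),
      D8.mv z1 (h.ff hr), D8.sw (h.cf hr rfl).symm, D8.sw y3, D8.sw z3, D8.sw (h.cf hr k5).symm,
      D8.l1 (h.ff hr), D8.sw (h.cf hc cg.symm).symm, D8.sw (h.cf hc (cc hr ha hc q2).1).symm,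
      D8.sw (h.cf hg' (cc hr hg hg' q3).1).symm, D8.sw m2.symm, D8.l1 (h.ff hc), D8.l1 (h.ff hg')])
  rw [w1, w3] at w2
  simp only [mul_assoc, mul_right_inj, ← map_mul, h.inj.eq_iff] at w2
  have e5 : s * (a * (r * s)) = a * (g * r) := by
    rw [rs, ← mul_assoc a g, (cc hs ha hg q1).2, ← q1]
    simp only [mul_assoc, D8.l1 (h.sq ha)]
  rw [e5] at w2
  simp only [mul_right_inj, left_eq_mul] at w2
  exact D8.cm (h.sq hr) k2 (hk'.trans w2)

end Dbl

end Cfsg.Agent.Wr
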