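import Cfsg.Agent.Wr3.Bas
import Cfsg.Agent.WfS.Fin

/-! The field `loc` of the wreath theorem. -/

set_option autoImplicit false
set_option linter.unusedSectionVars false

namespace Cfsg.Agent.Wr3

open Cfsg Subgroup Cfsg.Agent.PLocal Cfsg.Agent.PLocal.Amb Cfsg.Agent.Lyons
open Cfsg.Agent.Wr2 (St Tw Fo Oc Sw')
open scoped commutatorElement

universe v

variable {G : Type*} [Group G] [Finite G] {Y : Type*} [Group Y] [Finite Y] {D : Dt Y}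
  {A : Subgroup G} {ρ : G → Y} {j : Y → G}

/-- conjugation in `Y` -/
theorem St_cjY {B : Subgroup G} {ρ₁ : G → Y} (F : Bs D) (st : St B ρ₁ D.Y₀) (y : Y) :
    St B (fun x => y * ρ₁ x * y⁻¹) D.Y₀ := by
  have := F.nrm
  refine ⟨fun a ha b hb => by rw [st.mul a ha b hb]; group, fun m hm => by rw [conj_eq_one_iff, st.ker m hm],
    fun a ha => this.conj_mem _ (st.mem a ha) y, fun c hc => ?_, fun a ha e => st.odd a ha (conj_eq_one_iff.1 e), st.perf⟩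
  obtain ⟨a, ha, e⟩ := st.sur _ (this.conj_mem' _ hc y)
  exact ⟨a, ha, by rw [e]; group⟩

/-- PROOF. `ρ₁` is injective on `P ⊓ B` (`St.uq`), with image `T`; `Zt (P ⊓ B) = {1, z₁}`, `ρ₁ z₁ = z` (`zc`, `cz`).
`c1`: `ρ₁ x ∈ {1, z}` by `cz`.  `c2`: `zd`.  `zf`: `⁅F, P ⊓ B⁆ ≤ F ⊓ (P ⊓ B)` is normal in `P ⊓ B`; trivial or meets the
centre.  `h4`: the elements of `P ⊓ B` with image in `W`.  `gr`: if `img P ≤ Y₀` then `img P = T` (`UY`), so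
`P = (P ⊓ B) ⊔ (P ⊓ C(B))`.  Otherwise `img P = U` (`idx`, `UY`); `α (ρ₁ p) = ρ₁ (g p g⁻¹)` is well defined
(kernel `P ⊓ C(B)`), an `Au U`; `chT`.  `zc`: trivial.  `mu`: second alternative, the elements of `P ⊓ B` with image in `K`. -/
theorem loc_aux {B P : Subgroup G} {ρ₁ : G → Y} (F : Bs D) (L : Lc D) (st : St B ρ₁ D.Y₀)
    (P2 : IsPGroup 2 P) (hP : P ≤ 𝐍[B]) (h1 : ∀ x ∈ P, ρ₁ x ∈ D.U)
    (h2 : ∀ a ∈ D.T, ∃ x ∈ P ⊓ B, ρ₁ x = a) : WfS.Loc B P := by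
  have RN : ∀ {x}, x ∈ P ⊓ B → x ∈ 𝐍[B] := fun hx => hP hx.1
  have mT : ∀ x ∈ P ⊓ B, ρ₁ x ∈ D.T := fun x hx => F.UY (h1 x hx.1) (st.mem x hx.2)
  have uq : ∀ x ∈ P ⊓ B, ∀ y ∈ P ⊓ B, ρ₁ x = ρ₁ y → x = y := fun x hx y hy =>
    st.uq hx.2 hy.2 (isPGroup_iff.1 P2 x hx.1) (isPGroup_iff.1 P2 y hy.1)
  have cR : ∀ p ∈ P, ∀ x ∈ P ⊓ B, p * x * p⁻¹ ∈ P ⊓ B := fun p hp x hx =>
    ⟨P.mul_mem (P.mul_mem hp hx.1) (P.inv_mem hp), conj_mem_of_mem_normalizer (hP hp) hx.2⟩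
  obtain ⟨z₁, zR, ez⟩ := h2 _ F.zT
  have cz : ∀ x ∈ P, x ∈ 𝐂[P ⊓ B] → ρ₁ x = 1 ∨ ρ₁ x = D.z := fun x hx hc => F.cz _ fun a ha => by
    obtain ⟨r, hr, rfl⟩ := h2 a ha
    exact st.com (RN hr) (hP hx) (hc r hr)
  have zZ : z₁ ∈ WfS.Zt (P ⊓ B) := ⟨zR, fun r hr => uq _ (mul_mem hr zR) _ (mul_mem zR hr) (by
    rw [st.mul _ (RN hr) _ (RN zR), st.mul _ (RN zR) _ (RN hr), ez, F.zc _ (mT r hr)])⟩
  have Z2 : ∀ x ∈ WfS.Zt (P ⊓ B), x = 1 ∨ x = z₁ := fun x hx => (cz x hx.1.1 hx.2).imp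
    (fun e => uq _ hx.1 _ (one_mem _) (e.trans st.one.symm)) fun e => uq _ hx.1 _ zR (e.trans ez.symm)
  have Zle : ∀ K : Subgroup G, z₁ ∈ K → WfS.Zt (P ⊓ B) ≤ K := fun K hK x hx => by
    rcases Z2 x hx with rfl | rfl
    exacts [one_mem _, hK]
  have cle : ⁅P ⊓ B, P ⊓ B⁆ ≤ P ⊓ B := commutator_le_self _
  have cm : ∀ x ∈ P ⊓ B, ρ₁ x ∈ ⁅D.T, D.T⁆ → x ∈ ⁅P ⊓ B, P ⊓ B⁆ := fun x hx h => by
    have k : ⁅D.T, D.T⁆ ≤ st.img ⁅P ⊓ B, P ⊓ B⁆ := commutator_le.2 fun a ha b hb => by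
      obtain ⟨r, hr, rfl⟩ := h2 a ha
      obtain ⟨s, hs, rfl⟩ := h2 b hb
      exact (st.mem_img fun _ h => RN (cle h)).2 ⟨_, commutator_mem_commutator hr hs,
        map_commutatorElement st.hom ⟨r, RN hr⟩ ⟨s, RN hs⟩⟩
    obtain ⟨y, hy, e⟩ := (st.mem_img fun _ h => RN (cle h)).1 (k h)
    exact uq _ (cle hy) _ hx e ▸ hy
  have pre : ∀ W : Subgroup Y, D.U ≤ 𝐍[W] → ∃ A : Subgroup G, (∀ x, x ∈ A ↔ x ∈ P ⊓ B ∧ ρ₁ x ∈ W) ∧ P ≤ 𝐍[A] :=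
    fun W hW => by
      have m : ∀ x, x ∈ P ⊓ B ⊓ (W.comap st.hom).map 𝐍[B].subtype ↔ x ∈ P ⊓ B ∧ ρ₁ x ∈ W := fun x =>
        and_congr_right fun hx => ⟨by rintro ⟨y, hy, rfl⟩; exact hy, fun h => ⟨⟨x, RN hx⟩, h, rfl⟩⟩
      refine ⟨_, m, fun p hp => mem_normalizer_of_cj_le (cj_le_iff_forall.2 fun x hx => (m _).2 ?_)⟩
      obtain ⟨a, b⟩ := (m x).1 hx
      exact ⟨cR p hp x a, st.conj (hP hp) (RN a) ▸ conj_mem_of_mem_normalizer (hW (h1 p hp)) b⟩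
  refine ⟨fun x hx hc => ?_, Zle _ (cm _ zR (ez ▸ F.zd)), fun K hK hn => or_iff_not_imp_left.2 fun h => Zle K ?_, ?_,
    fun _ _ g g1 g2 _ => cj_le_iff_forall.2 fun r hr => ?_, fun a ha b hb a1 b1 => ⟨1, one_mem _, ?_⟩, .inr ?_⟩
  · rcases cz x hx hc with e | e
    · exact ⟨1, one_mem _, by rw [mul_one]; exact (st.ker x (hP hx)).1 e⟩
    · exact ⟨z₁, zZ, (st.ker _ (mul_mem (hP hx) (RN zR))).1 (by rw [st.mul _ (hP hx) _ (RN zR), e, ez, F.zz])⟩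
  · have ne : K ⊓ (P ⊓ B) ≠ ⊥ := fun e => h fun f hf r hr => by
      have : f * r * f⁻¹ * r⁻¹ ∈ K ⊓ (P ⊓ B) := mem_inf.2 ⟨by
        rw [mul_assoc, mul_assoc, ← mul_assoc r]
        exact mul_mem hf (conj_mem_of_mem_normalizer (hn hr) (inv_mem hf)), mul_mem (cR f (hK hf) r hr) (inv_mem hr)⟩
      rw [e, mem_bot, mul_inv_eq_one, mul_inv_eq_iff_eq_mul] at this
      exact this.symm
    obtain ⟨x, hx, x1⟩ := (bot_or_exists_ne_one _).resolve_left (inf_centralizer_ne_bot (T := P ⊓ B) (P2.to_le inf_le_left)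
      (V := K ⊓ (P ⊓ B)) (P2.to_le (inf_le_right.trans inf_le_left))
      (fun r hr => mem_normalizer_of_cj_le (cj_le_iff_forall.2 fun x hx =>
        ⟨conj_mem_of_mem_normalizer (hn hr) hx.1, cR r hr.1 x hx.2⟩)) ne)
    exact (Z2 x ⟨hx.1.2, hx.2⟩).resolve_left x1 ▸ hx.1.1
  · obtain ⟨W, w1, w2, w3, w4⟩ := L.h4
    obtain ⟨A, m, n⟩ := pre W w3
    refine ⟨A, fun x hx => ((m x).1 hx).1, fun x hx => ?_, n, w4.trans_le (Nat.card_le_card_of_surjective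
      (fun x : A => (⟨ρ₁ x, ((m x).1 x.2).2⟩ : W)) fun w => ?_)⟩
    · obtain ⟨a, b⟩ := (m x).1 hx
      exact uq _ (mul_mem a a) _ (one_mem _) (by rw [st.mul _ (RN a) _ (RN a), w2 _ b, st.one])
    · obtain ⟨x, hx, e⟩ := h2 w (w1 w.2)
      exact ⟨⟨x, (m x).2 ⟨hx, e ▸ w.2⟩⟩, Subtype.ext e⟩
  · have gP : ∀ p ∈ P, g * p * g⁻¹ ∈ P := fun p hp => conj_mem_of_mem_normalizer g1 hp
    suffices k : ρ₁ (g * r * g⁻¹) ∈ D.T by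
      obtain ⟨s, hs, e⟩ := h2 _ k
      rw [← mul_inv_cancel_left s (g * r * g⁻¹)]
      exact mul_mem (mem_sup_left hs) (mem_sup_right ⟨P.mul_mem (P.inv_mem hs.1) (gP r hr.1),
        st.div (RN hs) (hP (gP r hr.1)) e⟩)
    by_cases c : ∀ p ∈ P, ρ₁ p ∈ D.Y₀
    · exact F.UY (h1 _ (gP r hr.1)) (c _ (gP r hr.1))
    push Not at c
    obtain ⟨p₀, hp, p1⟩ := c
    have ex : ∀ u ∈ D.U, ∃ p ∈ P, ρ₁ p = u := fun u hu => by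
      by_cases c : u ∈ D.Y₀
      · obtain ⟨x, hx, e⟩ := h2 u (F.UY hu c)
        exact ⟨x, hx.1, e⟩
      · obtain ⟨x, hx, e⟩ := h2 _ (F.UY (mul_mem hu (h1 _ hp)) (F.idx _ _ c p1))
        exact ⟨_, mul_mem hx.1 (inv_mem hp), by
          rw [st.mul _ (RN hx) _ (hP (inv_mem hp)), e, st.inv (hP hp), mul_inv_cancel_right]⟩
    choose! s sP se using ex
    have wd : ∀ p ∈ P, ρ₁ (g * s (ρ₁ p) * g⁻¹) = ρ₁ (g * p * g⁻¹) := fun p hp => by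
      have a := sP _ (h1 p hp)
      have b := st.kerC (conj_mem_of_mem_normalizer g2 (x := (s (ρ₁ p))⁻¹ * p)
        ⟨P.mul_mem (P.inv_mem a) hp, st.div (hP a) (hP hp) (se _ (h1 p hp))⟩).2
      rwa [← conj_mul, ← conj_inv, st.mul _ (hP (inv_mem (gP _ a))) _ (hP (gP _ hp)), st.inv (hP (gP _ a)),
        inv_mul_eq_one] at b
    rw [← wd r hr.1]
    refine L.chT (fun u => ρ₁ (g * s u * g⁻¹)) ⟨fun a ha b hb => ?_, fun a ha => h1 _ (gP _ (sP a ha)), fun a ha e => ?_⟩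
      _ (mT r hr)
    · have := wd _ (mul_mem (sP a ha) (sP b hb))
      rw [st.mul _ (hP (sP a ha)) _ (hP (sP b hb)), se a ha, se b hb, ← conj_mul,
        st.mul _ (hP (gP _ (sP a ha))) _ (hP (gP _ (sP b hb)))] at this
      exact this
    · have := (conj_mem_of_mem_normalizer (inv_mem g2) (x := g * s a * g⁻¹)
        ⟨gP _ (sP a ha), (st.ker _ (hP (gP _ (sP a ha)))).1 e⟩).2
      rw [show g⁻¹ * (g * s a * g⁻¹) * g⁻¹⁻¹ = s a by group] at this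
      rw [← se a ha, st.kerC this]
  · rw [(Z2 a ha).resolve_left a1, (Z2 b hb).resolve_left b1, one_mul, inv_one, mul_one]
  · obtain ⟨K, k1, k2, k3, k4⟩ := L.mu
    obtain ⟨A, m, n⟩ := pre K k3
    have c : ∀ a ∈ P ⊓ 𝐂[A], ρ₁ a ∈ D.U ⊓ 𝐂[K] := fun a ha => ⟨h1 a ha.1, fun k hk => by
      obtain ⟨x, hx, rfl⟩ := h2 k (commutator_le_self _ (k2 hk))
      exact st.com (RN hx) (hP ha.1) (ha.2 x ((m x).2 ⟨hx, hk⟩))⟩
    refine ⟨A, Zle A ((m _).2 ⟨zR, ez ▸ k1⟩), fun x hx => cm x ((m x).1 hx).1 (k2 ((m x).1 hx).2), n,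
      commutator_le.2 fun a ha b hb => (st.ker _ (commutator_le_self _
        (commutator_mem_commutator (hP ha.1) (hP hb.1)))).1 ?_⟩
    exact (map_commutatorElement st.hom ⟨a, hP ha.1⟩ ⟨b, hP hb.1⟩).trans
      (commutatorElement_eq_one_iff_mul_comm.2 (k4 _ (c a ha) _ (c b hb)))

/-- PROOF. `img P` is conjugate into `U` by `y ∈ Y` (`sylU`); `img (P ⊓ B)` is Sylow in `Y₀` (`St.syl_img`,
`img_A`), so its conjugate is `U ⊓ Y₀ = T`; `St_cjY`, `loc_aux`. -/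
theorem loc {B : Subgroup G} {ρ₁ : G → Y} (F : Bs D) (L : Lc D) (st : St B ρ₁ D.Y₀)
    (P : Subgroup G) (P2 : IsPGroup 2 P) (hP : P ≤ 𝐍[B]) (hS : IsSyl 2 (P ⊓ B) B) :
    WfS.Loc B P := by
  have := F.nrm
  obtain ⟨y, -, hy⟩ := F.sylU.exists_cj_le (st.pg_img P2) le_top
  have k : ∀ x ∈ P, y * ρ₁ x * y⁻¹ ∈ D.U := fun x hx => hy (conj_mem_cj y ((st.mem_img hP).2 ⟨x, hx, rfl⟩))
  have RN : P ⊓ B ≤ 𝐍[B] := inf_le_left.trans hP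
  have s := (st.syl_img hS le_normalizer).cj y
  rw [st.img_A, cj_of_normal y D.Y₀] at s
  refine loc_aux F L (St_cjY F st y) P2 hP k fun a ha => ?_
  obtain ⟨_, h1, rfl⟩ := mem_cj_iff_exists.1 (s.max _ F.sylT.pgrp (cj_le_iff_forall.2 fun b hb => by
    obtain ⟨x, hx, rfl⟩ := (st.mem_img RN).1 hb
    exact F.UY (k x hx.1) (this.conj_mem _ (st.mem x hx.2) y)) F.sylT.le ha)
  obtain ⟨x, hx, rfl⟩ := (st.mem_img RN).1 h1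
  exact ⟨x, hx, rfl⟩

end Cfsg.Agent.Wr3
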