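import Cfsg.Agent.Wr.Act

/-! Doubling: dihedral groups of order `8` and lines. -/

set_option autoImplicit false
set_option linter.unusedSectionVars false

namespace Cfsg.Agent.Wr.D8

variable {G : Type*} [Group G]

theorem cm {x y : G} (hx : x * x = 1) (hy : y * y = 1) (e : x * y * (x * y) = 1) : x * y = y * x := by
  rw [eq_inv_of_mul_eq_one_left e, mul_inv_rev, inv_eq_of_sq hx, inv_eq_of_sq hy]

theorem one {x y : G} (e : x * 1 = y * 1) : x = y := mul_right_cancel e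

theorem lc {x y u : G} (e : x * y = u) (w : G) : x * (y * w) = u * w := by rw [← mul_assoc, e]

theorem l1 {x : G} (e : x * x = 1) : x⁻¹ = x ∧ ∀ w, x * (x * w) = w :=
  ⟨inv_eq_of_sq e, fun w => by rw [← mul_assoc, e, one_mul]⟩

end Cfsg.Agent.Wr.D8

namespace Cfsg.Agent.Wr.Dbl

open Subgroup

variable {M G : Type*} [Group M] [Group G] {ι : M →* G} {t : G} {z : M} {f : M → G}
  (h : Dbl ι t z f)
include h

/-- `f a` commutes with `f b` (the product `f (a b)` is an involution) and with `ι b` (`cf`); `tft` -/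
theorem rel_of_add {a b : M} (ha : Cl z a) (hb : Cl z b) (hab : Cl z (a * b)) (c : a * b = b * a)
    (e : f (a * b) = f a * f b) : Rel t f a b := by
  have c1 : Commute (f a) (f b) := D8.cm (h.ff ha) (h.ff hb) (e ▸ h.ff hab)
  unfold Rel
  rw [inv_eq_of_sq h.tt, h.tft hb]
  exact c1.mul_right (h.cf ha c.symm).symm

theorem rel_self {a : M} (ha : Cl z a) : Rel t f a a :=
  h.rel_of_add ha ha (Or.inl (h.sq ha)) rfl (by rw [h.sq ha, h.f1, h.ff ha])

theorem add_symm {a b : M} (ha : Cl z a) (hb : Cl z b) (hab : Cl z (a * b)) (c : a * b = b * a)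
    (e : f (a * b) = f a * f b) : f a * f b = f b * f a ∧ f a = f (a * b) * f b :=
  ⟨D8.cm (h.ff ha) (h.ff hb) (e ▸ h.ff hab), by rw [e, mul_assoc, h.ff hb, mul_one]⟩

/-- `t f q` commutes with `t f d` and `t f d f c`, so with `f c`; `f q` commutes with `f c`; `eq_one_of_comm` -/
theorem anti2 {d q c : M} (hd : Cl z d) (hq : Cl z q) (hc : Cl z c) (hdc : Cl z (d * c))
    (a1 : Anti t f d q) (a2 : Anti t f (d * c) q) (e1 : f (d * c) = f d * f c)
    (e2 : f q * f c = f c * f q) : c = 1 := by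
  have c1 : Commute (t * f d) (t * f q) := a1.1
  have c2 : Commute (t * f (d * c)) (t * f q) := a2.1
  have c3 : Commute (f c) (t * f q) := by simpa [e1, mul_assoc] using c1.inv_left.mul_left c2
  exact h.eq_one_of_comm hc (by simpa using (c3.mul_right (Commute.inv_right e2.symm)).symm.eq)

/-- `line` with a weaker hypothesis on the double centraliser: only `x` which are fixed by everything are needed.  Copy `line`
if nothing better; here `P` describes a set of elements of `C(d) ⊓ C(e)`. -/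
theorem line' {d e ρ : M} (hd : Cl z d) (he : Cl z e) (hde : Cl z (d * e)) (hc : d * e = e * d)
    (d1 : d ≠ 1) (e1 : e ≠ 1) (de : d ≠ e) (r1 : ρ * d * ρ⁻¹ = e) (r2 : ρ * e * ρ⁻¹ = d * e)
    {S : Set M} (hS : ∀ c ∈ S, c * d = d * c ∧ c * e = e * c)
    (hV : ∀ x, (∀ c ∈ S, c * x = x * c) → x = 1 ∨ x = d ∨ x = e ∨ x = d * e) :
    f (d * e) = f d * f e ∨ Anti t f d e :=
  h.line hd he hde hc d1 e1 de r1 r2 fun x hx => hV x fun c hc => hx c (hS c hc)

section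
variable {d e c : M} (hd : Cl z d) (he : Cl z e) (hc : Cl z c) (ec : d * e * (d * e) = c)
  (ed : f (d * c) = f d * f c) (ee : f (e * c) = f e * f c)
include hd he hc ec ed ee

/-- a rewriting system -/
theorem d8_rw : ((∀ w, t * (f d * w) = f d * ι d * t * w) ∧ (∀ w, t * (f e * w) = f e * ι e * t * w) ∧
      (∀ w, t * (f c * w) = f c * ι c * t * w) ∧ (∀ a w, t * (ι a * w) = ι a * t * w)) ∧
    ((∀ w, ι d * (f d * w) = f d * ι d * w) ∧ (∀ w, ι e * (f e * w) = f e * ι e * w) ∧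
      (∀ w, ι c * (f c * w) = f c * ι c * w) ∧ (∀ w, ι d * (f c * w) = f c * ι d * w) ∧
      (∀ w, ι e * (f c * w) = f c * ι e * w) ∧ (∀ w, ι c * (f d * w) = f d * ι c * w) ∧
      (∀ w, ι c * (f e * w) = f e * ι c * w)) ∧
    ((∀ w, ι e * (f d * w) = f d * f c * ι e * w) ∧ (∀ w, ι d * (f e * w) = f e * f c * ι d * w) ∧
      (∀ w, f c * (f d * w) = f d * f c * w) ∧ (∀ w, f c * (f e * w) = f e * f c * w)) ∧
    ((∀ w, ι c * (ι d * w) = ι d * ι c * w) ∧ (∀ w, ι c * (ι e * w) = ι e * ι c * w) ∧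
      (∀ w, ι e * (ι d * w) = ι d * ι e * ι c * w)) ∧
    (t⁻¹ = t ∧ ∀ w, t * (t * w) = w) ∧ ((f d)⁻¹ = f d ∧ ∀ w, f d * (f d * w) = w) ∧
    ((f e)⁻¹ = f e ∧ ∀ w, f e * (f e * w) = w) ∧ ((f c)⁻¹ = f c ∧ ∀ w, f c * (f c * w) = w) ∧
    ((ι d)⁻¹ = ι d ∧ ∀ w, ι d * (ι d * w) = w) ∧ ((ι e)⁻¹ = ι e ∧ ∀ w, ι e * (ι e * w) = w) ∧
    ((ι c)⁻¹ = ι c ∧ ∀ w, ι c * (ι c * w) = w) := by
  have dd := D8.l1 (h.sq hd)
  have ee' := D8.l1 (h.sq he)
  have a1 : e * d * e⁻¹ = d * c := D8.one (by simp only [← ec, mul_assoc, dd, ee'])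
  have a2 : d * e * d⁻¹ = c * e := D8.one (by simp only [← ec, mul_assoc, dd, ee'])
  have a3 : d * c = c * d := D8.cm (h.sq hd) (h.sq hc) (a1 ▸ h.sq (hd.conj e))
  have a4 : c * e = e * c := D8.cm (h.sq hc) (h.sq he) (a2 ▸ h.sq (he.conj d))
  have b1 := h.eqv e d hd
  have b2 := h.eqv d e he
  have b3 := h.ff (hd.conj e)
  have b4 := h.ff (he.conj d)
  rw [a1, ed] at b1 b3
  rw [a2, a4, ee] at b2 b4
  exact ⟨⟨D8.lc (h.tf hd), D8.lc (h.tf he), D8.lc (h.tf hc), fun a => D8.lc (h.tA a)⟩,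
    ⟨D8.lc (h.cf hd rfl), D8.lc (h.cf he rfl), D8.lc (h.cf hc rfl), D8.lc (h.cf hc a3), D8.lc (h.cf hc a4.symm),
      D8.lc (h.cf hd a3.symm), D8.lc (h.cf he a4)⟩,
    ⟨D8.lc (by rw [b1, inv_mul_cancel_right]), D8.lc (by rw [b2, inv_mul_cancel_right]),
      D8.lc (D8.cm (h.ff hd) (h.ff hc) b3).symm, D8.lc (D8.cm (h.ff he) (h.ff hc) b4).symm⟩,
    ⟨D8.lc (h.cι a3.symm), D8.lc (h.cι a4), D8.lc (by
      rw [← map_mul, ← map_mul, ← map_mul, mul_assoc, ← a4, ← mul_assoc, ← a1, inv_mul_cancel_right])⟩,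
    D8.l1 h.tt, D8.l1 (h.ff hd), D8.l1 (h.ff he), D8.l1 (h.ff hc), D8.l1 (h.ιι hd), D8.l1 (h.ιι he), D8.l1 (h.ιι hc)⟩

/-- `c` commutes with `d, e`; `e d e = d c`, so `ι e * f d * ι e = f (d c) = f d * f c` (`eqv`) -/
theorem d8_1 : f d * ι e * f d = ι e * f c ∧ f e * ι d * f e = ι d * f c ∧
    f d * f c = f c * f d ∧ f e * f c = f c * f e := by
  refine ⟨?_, ?_, ?_, ?_⟩ <;> refine D8.one ?_ <;> simp only [mul_assoc, h.d8_rw hd he hc ec ed ee]

/-- `w = f d * f e`: `w t w⁻¹ = t * ι (d e) * f c`, and `w` commutes with `ι (d e)` -/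
theorem d8_2 : f d * f e * t * (f d * f e)⁻¹ = t * ι (d * e) * f c ∧
    f d * f e * ι (d * e) = ι (d * e) * (f d * f e) := by
  refine ⟨?_, ?_⟩ <;> refine D8.one ?_ <;> simp only [mul_assoc, map_mul, mul_inv_rev, h.d8_rw hd he hc ec ed ee]

/-- PROOF. `x = w w (f c)` centralises `t` (`d8_2`, `fft`), so `x = ι k` or `ι k * t` (`cent`).  `x` commutes with `ι l` for
`l ∈ C(d) ⊓ C(e)` (`cf`), and with `ι d`, `ι e` (`ι d w ι d = w f c`).  `f d` and `f e` invert `x`.  If `x = ι k * t` this gives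
`k k = d` and `k k = e`. -/
theorem d8_3 (ne : d ≠ e) : ∃ k, f d * f e * (f d * f e) * f c = ι k ∧ k * k = 1 ∧ k * d = d * k ∧
    k * e = e * k ∧ ∀ l, l * d = d * l → l * e = e * l → l * k = k * l := by
  have R := h.d8_rw hd he hc ec ed ee
  obtain ⟨k, hk, hx⟩ := h.cen (x := f d * f e * (f d * f e) * f c) (D8.one (by simp only [mul_assoc, R]))
    (P := fun l => l = d ∨ l = e ∨ l * d = d * l ∧ l * e = e * l) (fun l hl => by
      rcases hl with rfl | rfl | ⟨l1, l2⟩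
      · exact D8.one (by simp only [mul_assoc, R])
      · exact D8.one (by simp only [mul_assoc, R])
      · have c1 : Commute (ι l) (f d * f e) := Commute.mul_right (h.cf hd l1) (h.cf he l2)
        have c2 : Commute l (d * e) := Commute.mul_right l1 l2
        exact (c1.mul_right c1).mul_right (h.cf hc (ec ▸ c2.mul_right c2))) fun _ k => k
  have k1 := (hk d (.inl rfl)).symm
  have k2 := (hk e (.inr (.inl rfl))).symm
  have i1 : f d * (f d * f e * (f d * f e) * f c) * f d * (f d * f e * (f d * f e) * f c) = 1 :=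
    D8.one (by simp only [mul_assoc, R, one_mul])
  have i2 : f e * (f d * f e * (f d * f e) * f c) * f e * (f d * f e * (f d * f e) * f c) = 1 :=
    D8.one (by simp only [mul_assoc, R, one_mul])
  rcases hx with hx | hx
  · rw [hx, ← h.cf hd k1, mul_assoc (ι k), h.ff hd, mul_one, ← map_mul, map_eq_one_iff _ h.inj] at i1
    exact ⟨k, hx, i1, k1, k2, fun l a b => hk l (.inr (.inr ⟨a, b⟩))⟩
  · have key : ∀ {a}, Cl z a → k * a = a * k → f a * (ι k * t) * f a * (ι k * t) = 1 → k * a * k = 1 := fun ha c i => by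
      rwa [← mul_assoc (f _), ← h.cf ha c, mul_assoc (ι k), mul_assoc (ι k), h.fft ha, h.tA, mul_assoc, mul_assoc,
        ← mul_assoc t, h.tA, mul_assoc, h.tt, mul_one, ← map_mul, ← map_mul, map_eq_one_iff _ h.inj, ← mul_assoc] at i
    rw [hx] at i1 i2
    exact absurd (mul_left_cancel (mul_right_cancel ((key hd k1 i1).trans (key he k2 i2).symm))) ne

/-- `f d` commutes with `t (f e) t⁻¹ = f e * ι e` iff `w w (f c) = 1` (`d8_1`) -/
theorem d8_rel (e1 : f d * f e * (f d * f e) * f c = 1) : Rel t f d e := by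
  have R := h.d8_rw hd he hc ec ed ee
  have e2 : f e * f d = f d * f e * f c := by
    rw [← mul_one (f e * f d), ← e1]
    exact D8.one (by simp only [mul_assoc, R])
  exact D8.one (by simp only [mul_assoc, R, D8.lc e2])

/-- `w (ι l) w⁻¹` commutes with `w t w⁻¹`, `ι (d e)` and `f c`, so with `t` -/
theorem d8_4 {l : M} (hl : l * (d * e) = d * e * l) : ∃ l', l' * (d * e) = d * e * l' ∧
    (f d * f e * ι l * (f d * f e)⁻¹ = ι l' ∨ f d * f e * ι l * (f d * f e)⁻¹ = ι l' * t) := by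
  obtain ⟨e1, e2⟩ := h.d8_2 hd he hc ec ed ee
  obtain ⟨-, -, e3, e4⟩ := h.d8_1 hd he hc ec ed ee
  have c0 : Commute l (d * e) := hl
  have k : ∀ {u}, Commute (f d * f e) u → Commute (ι l) u → Commute (f d * f e * ι l * (f d * f e)⁻¹) u :=
    fun a b => (a.mul_left b).mul_left a.inv_left
  have c1 := k e2 (h.cι hl)
  have c2 := k (Commute.mul_left e3 e4) (h.cf hc (ec ▸ c0.mul_right c0))
  have c3 : Commute (f d * f e * ι l * (f d * f e)⁻¹) (t * ι (d * e) * f c) := e1 ▸ conj_comm (h.tA l).symm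
  obtain ⟨u, hu, hx⟩ := h.cen (P := fun l => l = d * e) (Q := fun u => u * (d * e) = d * e * u)
    (by simpa only [mul_inv_cancel_right] using ((c3.mul_right c2.inv_right).mul_right c1.inv_right).eq)
    (fun _ e => e ▸ c1.symm.eq) fun u k => (k _ rfl).symm
  exact ⟨u, hu, hx⟩

/-- a rotation: `(ι l)⁻¹ w (ι l) = f e * f (d c)` by `eqv` -/
theorem d8_5 {k l : M} (hk : f d * f e * (f d * f e) * f c = ι k) (k2 : k * k = 1)
    (l1 : l⁻¹ * d * l = e) (l2 : l⁻¹ * e * l = d * c) :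
    f d * f e * ι l * (f d * f e)⁻¹ = ι (l * k) := by
  have R := h.d8_rw hd he hc ec ed ee
  have q1 := h.eqv l⁻¹ d hd
  have q2 := h.eqv l⁻¹ e he
  rw [inv_inv, map_inv, inv_inv] at q1 q2
  rw [l1] at q1
  rw [l2, ed] at q2
  calc _ = ι l * ((ι l)⁻¹ * f d * ι l * ((ι l)⁻¹ * f e * ι l) * (f d * f e)⁻¹) := by group
    _ = _ := by
      rw [← q1, ← q2, map_mul, ← inv_eq_of_sq k2, map_inv, ← hk]
      exact congrArg _ (D8.one (by simp only [mul_assoc, mul_inv_rev, R]))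

omit hc ec ed ee in
/-- `(ι l)⁻¹ w (ι l) = f d * f q * (f e * f q) = w` -/
theorem d8_6 {q l : M} (hq : Cl z q) (l1 : l⁻¹ * d * l = d * q) (l2 : l⁻¹ * e * l = e * q)
    (q1 : f (d * q) = f d * f q) (q2 : f (e * q) = f e * f q) :
    f d * f e * ι l * (f d * f e)⁻¹ = ι l := by
  have p1 := h.eqv l⁻¹ d hd
  have p2 := h.eqv l⁻¹ e he
  have p3 := h.ff (he.conj l⁻¹)
  rw [inv_inv, map_inv, inv_inv] at p1 p2
  rw [inv_inv, l2, q2] at p3
  rw [l1, q1] at p1
  rw [l2, q2] at p2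
  calc _ = ι l * ((ι l)⁻¹ * f d * ι l * ((ι l)⁻¹ * f e * ι l) * (f d * f e)⁻¹) := by group
    _ = _ := by
      rw [← p1, ← p2, D8.cm (h.ff he) (h.ff hq) p3, mul_assoc (f d), ← mul_assoc (f q), h.ff hq, one_mul,
        mul_inv_cancel, mul_one]

/-- PROOF. Let `k` be as in `d8_3`, `s'` as in `d8_4` for `l = s`.  Conjugating `s v s⁻¹ = v'` by `w` gives
`s' (φ v) s'⁻¹ = φ v'` (in both cases of `d8_4`, as `t` centralises `ι M`). -/
theorem d8_7 {s : M} (hs : s * (d * e) = d * e * s) : ∃ s', s' * (d * e) = d * e * s' ∧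
    ∀ v v' p p', s * v * s⁻¹ = v' → f d * f e * ι v * (f d * f e)⁻¹ = ι p →
      f d * f e * ι v' * (f d * f e)⁻¹ = ι p' → s' * p * s'⁻¹ = p' := by
  obtain ⟨s', h1, h2⟩ := h.d8_4 hd he hc ec ed ee hs
  refine ⟨s', h1, fun v v' p p' e1 e2 e3 => h.inj ?_⟩
  have k : ι p' = f d * f e * ι s * (f d * f e)⁻¹ * ι p * (f d * f e * ι s * (f d * f e)⁻¹)⁻¹ := by
    rw [← e3, ← e2, ← e1, map_mul, map_mul, map_inv]; group
  rw [k, map_mul, map_mul, map_inv]
  rcases h2 with e | e <;> rw [e]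
  rw [mul_assoc _ t, h.tA]; group

end

end Cfsg.Agent.Wr.Dbl
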