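import Cfsg.Agent.Spor.OutON
import Cfsg.Agent.ONT.Cent

/-! `O'N:2`: an equality test for words in the generators of `ON` and an outer automorphism. -/

set_option autoImplicit false
set_option Elab.async false
set_option maxRecDepth 100000

namespace Cfsg.Agent.Wr3.ONM

open Subgroup Cfsg.Agent.Comp.BN Cfsg.Agent.Spor Cfsg.Agent.Spor.ONC Cfsg.Agent.Spor.ONC.M

noncomputable section

abbrev G : Type := Cfsg.Spor.ON

instance : Finite G := model.fin
instance : IsSimpleGroup G := simple

def FL : List (ℕ → ℕ) :=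
  [OutON.F0, OutON.F1, OutON.F4, OutON.F6, OutON.F8, OutON.F10, OutON.F12, OutON.F14]

/-- the action by tables -/
def ac : Act := ⟨act.A, fun k i => bif' (Nat.blt i 131072) (nth (fun j => j) FL k i) i⟩

theorem π_eq {k : ℕ} (hk : k < 8) : π k = Comp.wp OutON.ns1 [2 * k] := by
  rw [show Comp.wp OutON.ns1 [2 * k] = Comp.wp ModelON.ns [2 * k] from
    Comp.wp_vns_single OutON.vs1 (by change _ < 2 * 8; omega), ← model.map]
  exact Comp.equivOfPModel_gen model rfl rfl k

theorem spc : ac.Spec 131072 π := ⟨spec.hA, fun k i => by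
  change bif' _ _ _ = _
  rw [bif'_eq]
  split_ifs with h
  · rw [Nat.blt_eq] at h
    rcases lt_or_ge k 8 with hk | hk
    · rw [π_eq hk]
      interval_cases k
      exacts [OutON.tab0 i h, OutON.tab2 i h, OutON.tab4 i h, OutON.tab6 i h, OutON.tab8 i h,
        OutON.tab10 i h, OutON.tab12 i h, OutON.tab14 i h]
    · rw [nth_of_le _ _ _ hk, show π k = 1 from netPerm_out _ _ hk]; rfl
  · exact (spec.hN k i (by simpa using h)).symm, spec.hN⟩

def eqX (U V : List ℕ) : Bool := allL (fun p => Nat.beq (ptW ac U p) (ptW ac V p)) [55, 85, 0]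

theorem eqX_spec {U V : List ℕ} (h : eqX U V = true) : ev x U = ev x V := model.eq spc h

/-- the outer automorphism -/
def SW : List (List ℕ) := [[5, 0, 5, 7], [5, 0, 2, 5], [2], [4, 1, 3, 0, 4], [0, 4, 0, 7], [4, 5, 4], [6], [7]]

theorem satS : Sat P (subT x SW) := model.sat_sub spc (by decide) (by decide +kernel) (by decide +kernel)

theorem sq_S : allN (fun k => eqX (subst SW (nth [] SW k)) [k]) 8 = true := by decide +kernel

theorem exσ : ∃ σ : MulAut G, σ * σ = 1 ∧ ∀ k, σ (x k) = ev x (nth [] SW k) := by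
  obtain ⟨f, hf⟩ := link.1.hom G _ satS
  have h : ∀ g, f (f g) = g := fun g => by
    have : gen x ≤ (f.comp f).eqLocus (MonoidHom.id _) := gen_le fun k => by
      change f (f (x k)) = x k
      rcases lt_or_ge k 8 with hk | hk
      · rw [hf, subT, map_ev]
        simp only [hf]
        rw [← ev_subst, eqX_spec ((allN_eq _ _).1 sq_S k hk), ev_cons, ev_nil, mul_one]
      · rw [link.1.sat.out k hk, map_one, map_one]
    exact this (link.1.top ▸ mem_top g)
  exact ⟨{ f with invFun := f, left_inv := h, right_inv := h }, MulEquiv.ext h, hf⟩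

def σ : MulAut G := exσ.choose

abbrev Y : Type := MulAut G

abbrev ι : G →* Y := MulAut.conj

theorem ι_inj : Function.Injective ι := by
  rw [← MonoidHom.ker_eq_bot_iff]
  refine (IsSimpleGroup.eq_bot_or_eq_top_of_normal ι.ker inferInstance).resolve_right fun h => ?_
  have : ι (ev x [7]) (ev x [6]) = ev x [6] := by
    rw [(MonoidHom.mem_ker).1 (h ▸ mem_top (ev x [7]) : ev x [7] ∈ ι.ker)]; rfl
  exact model.not_comm spc [7] [6] 55 (by decide +kernel) (mul_inv_eq_iff_eq_mul.1 this)

theorem σ_ι (g : G) : σ * ι g = ι (σ g) * σ := MulEquiv.ext fun a => by simp [MulAut.conj_apply]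

/-- the generators of `Aut ON`; the letter `8` is the outer automorphism -/
def y (k : ℕ) : Y := if k = 8 then σ else ι (x k)

def go (W : List ℕ) : Bool → List ℕ :=
  List.rec (motive := fun _ => Bool → List ℕ) (fun _ => []) (fun k _ ih f =>
    Bool.rec (motive := fun _ => List ℕ) (bif' (Nat.beq k 8) (ih true) (k :: ih false))
      (bif' (Nat.beq k 8) (ih false) (appendL (nth [] SW k) (ih true))) f) W

def par (W : List ℕ) : Bool → Bool :=
  List.rec (motive := fun _ => Bool → Bool) (fun f => f) (fun k _ ih f =>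
    Bool.rec (motive := fun _ => Bool) (bif' (Nat.beq k 8) (ih true) (ih false))
      (bif' (Nat.beq k 8) (ih false) (ih true)) f) W

def sg (f : Bool) : Y := bif f then σ else 1

theorem go_spec (W : List ℕ) (f : Bool) : sg f * ev y W = ι (ev x (go W f)) * sg (par W f) := by
  induction W generalizing f with
  | nil => simp [go, par]
  | cons k W ih =>
    rw [ev_cons, ← mul_assoc]
    cases f
    · change _ = ι (ev x (bif' (Nat.beq k 8) (go W true) (k :: go W false))) *
        sg (bif' (Nat.beq k 8) (par W true) (par W false))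
      by_cases h : k = 8
      · subst h
        exact (congrArg (· * _) (one_mul σ)).trans (ih true)
      · rw [bif'_eq, bif'_eq, if_neg (by simpa using h), if_neg (by simpa using h), ev_cons, map_mul,
          mul_assoc (ι _), ← ih false, y, if_neg h]
        simp [sg]
    · change _ = ι (ev x (bif' (Nat.beq k 8) (go W false) (appendL (nth [] SW k) (go W true)))) *
        sg (bif' (Nat.beq k 8) (par W false) (par W true))
      by_cases h : k = 8
      · subst h
        exact (congrArg (· * _) exσ.choose_spec.1).trans (ih false)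
      · rw [bif'_eq, bif'_eq, if_neg (by simpa using h), if_neg (by simpa using h), appendL_eq, ev_append,
          map_mul, mul_assoc (ι _), ← ih true, y, if_neg h, ← exσ.choose_spec.2, ← mul_assoc]
        exact congrArg (· * _) (σ_ι _)

theorem ev_y (W : List ℕ) : ev y W = ι (ev x (go W false)) * sg (par W false) :=
  (one_mul _).symm.trans (go_spec W false)

def eqY (U V : List ℕ) : Bool :=
  band (bif' (par U false) (par V false) (par V false).not) (eqX (go U false) (go V false))

theorem eqY_spec {U V : List ℕ} (h : eqY U V = true) : ev y U = ev y V := by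
  obtain ⟨a, b⟩ := (band_eq _ _).1 h
  rw [ev_y, ev_y, eqX_spec b]
  revert a
  cases par U false <;> cases par V false <;> simp [bif'_eq]

/-- even words are inner -/
theorem inn {W : List ℕ} (h : par W false = false) : ev y W ∈ Inn G := by
  rw [ev_y, h]; exact ⟨_, (mul_one _).symm⟩

theorem out {W : List ℕ} (hσ : σ ∉ Inn G) (h : par W false = true) : ev y W ∉ Inn G := by
  rw [ev_y, h]; exact fun e => hσ ((mul_mem_cancel_left (MonoidHom.mem_range.2 ⟨_, rfl⟩)).1 e)

def neY (U V : List ℕ) (p : ℕ) : Bool :=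
  band (par U false).not (band (par V false).not
    (Nat.beq (ptW ac (go U false) p) (ptW ac (go V false) p)).not)

theorem neY_spec {U V : List ℕ} (p : ℕ) (h : neY U V p = true) : ev y U ≠ ev y V := by
  simp only [neY, band_eq, Bool.not_eq_true'] at h
  rw [ev_y, ev_y, h.1, h.2.1]
  exact fun e => model.ne spc p h.2.2 (ι_inj (mul_right_cancel e))

theorem ev_x {W : List ℕ} (h : ∀ k ∈ W, k ≠ 8) : ev y W = ι (ev x W) := by
  induction W with
  | nil => simp
  | cons k W ih =>
    rw [ev_cons, ev_cons, map_mul, ih fun l hl => h l (List.mem_cons_of_mem _ hl), y,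
      if_neg (h k List.mem_cons_self)]

theorem idx (a b : Y) (ha : a ∉ Inn G) (hb : b ∉ Inn G) : a * b ∈ Inn G :=
  (mul_mem_iff_of_index_two OutON.out_card).2 (iff_of_false ha hb)

/-- the isomorphism with the inner automorphisms -/
def eI : G ≃* Inn G := MonoidHom.ofInjective ι_inj

theorem aut (α : MulAut (Inn G)) : ∃ c : Y, ∀ a : Inn G, (α a : Y) = c * a * c⁻¹ := by
  refine ⟨eI.trans (α.trans eI.symm), fun a => ?_⟩
  obtain ⟨g, rfl⟩ := eI.surjective a
  obtain ⟨g', e⟩ := eI.surjective (α (eI g))
  rw [← e]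
  change ι g' = _ * ι g * _
  refine MulEquiv.ext fun a => ?_
  simp [MulAut.conj_apply, ← e]

theorem sim (N : Subgroup Y) (h : N ≤ Inn G) (hN : Inn G ≤ normalizer (N : Set Y)) : N = ⊥ ∨ N = Inn G := by
  have : (N.comap ι).Normal := ⟨fun n hn g => by
    rw [mem_comap, map_mul, map_mul, map_inv]
    exact (mem_normalizer_iff.1 (hN ⟨g, rfl⟩) _).1 hn⟩
  have e : (N.comap ι).map ι = N := map_comap_eq_self h
  rcases this.eq_bot_or_eq_top with a | a <;> rw [a] at e
  · exact Or.inl (e ▸ map_bot _)
  · exact Or.inr (e ▸ (MonoidHom.range_eq_map _).symm)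

theorem card_Inn : Nat.card (Inn G) = 460815505920 := (Nat.card_congr eI.toEquiv).symm.trans card

/-- `C(z)` -/
theorem mem_H {c : Y} : c ∈ Inn G ⊓ centralizer {y 7} ↔ ∃ g ∈ gen (subT x ONT.Cen.GW), ι g = c := by
  have : y 7 = ι (ev x [7]) := by simp [y]
  rw [← ONT.Cen.cent, this]
  simp only [mem_inf, mem_centralizer_singleton_iff]
  refine ⟨fun ⟨⟨g, e⟩, h⟩ => ⟨g, ι_inj ?_, e⟩, fun ⟨g, h, e⟩ => ⟨⟨g, e⟩, ?_⟩⟩
  · rwa [map_mul, map_mul, show ι g = c from e]
  · rw [← e, ← map_mul, h, map_mul]

theorem card_H : Nat.card (Inn G ⊓ centralizer {y 7} : Subgroup Y) = 161280 := by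
  rw [show Inn G ⊓ centralizer {y 7} = (gen (subT x ONT.Cen.GW)).map ι from ext fun _ => mem_H,
    card_map_of_injective ι_inj, ONT.Cen.card_K]

theorem le_of_nodup {A : Type*} [Group A] [Finite A] (K : Subgroup A) (t : A) (l : List A)
    (hl : ∀ w ∈ l, w ∈ K) (hn : (l.map fun w => w * t * w⁻¹).Nodup) :
    l.length * Nat.card (K ⊓ centralizer {t} : Subgroup A) ≤ Nat.card K := by
  have := Nat.card_le_card_of_injective (fun q : Fin l.length × (K ⊓ centralizer {t} : Subgroup A) =>
    (⟨l[q.1] * q.2, mul_mem (hl _ (List.getElem_mem _)) q.2.2.1⟩ : K)) (by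
      rintro ⟨i, a⟩ ⟨j, b⟩ e
      have e1 : l[i] * a = l[j] * b := congrArg Subtype.val e
      have k : ∀ (w : A) (c : (K ⊓ centralizer {t} : Subgroup A)), w * t * w⁻¹ = w * c * t * (w * c)⁻¹ :=
        fun w c => by rw [mul_assoc w c, mem_centralizer_singleton_iff.1 c.2.2]; group
      have : i = j := Fin.ext ((List.Nodup.getElem_inj_iff hn (i := i) (j := j) (hi := by simp)
        (hj := by simp)).1 (by
          rw [List.getElem_map, List.getElem_map]
          exact (k l[i] a).trans (e1 ▸ (k l[j] b).symm)))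
      subst this
      rw [Subtype.ext (mul_left_cancel e1)])
  simpa using this

/-- the word with the octal digits of `n` below the leading digit -/
def dec (n : ℕ) : List ℕ :=
  Nat.rec (motive := fun _ => ℕ → List ℕ) (fun _ => []) (fun _ ih n => force n fun n =>
    bif' (Nat.blt n 8) [] (Nat.land n 7 :: ih (Nat.shiftRight n 3))) 24 n

def key (t : List ℕ) (n : ℕ) : ℕ :=
  forceL (dec n) fun w => forceL (appendL w (appendL t (invW P.I w))) fun u =>
    Nat.add (Nat.shiftLeft (ptW ac u 55) 17) (ptW ac u 85)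

/-- increasing keys, words avoiding the letter `6` -/
def inc (t : List ℕ) (l : List ℕ) : ℕ → Bool :=
  List.rec (motive := fun _ => ℕ → Bool) (fun _ => true) (fun n _ ih b => force (key t n) fun c =>
    band (band (Nat.ble b c) (allL (fun k => band (Nat.blt k 8) (Nat.beq k 6).not) (dec n)))
      (ih (Nat.succ c))) l

theorem inc_spec {t l : List ℕ} {b : ℕ} (h : inc t l b = true) :
    (∀ n ∈ l, b ≤ key t n ∧ ∀ k ∈ dec n, k < 8 ∧ k ≠ 6) ∧ l.Pairwise fun m n => key t m < key t n := by
  induction l generalizing b with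
  | nil => simp
  | cons n l ih =>
    change force (key t n) (fun c => band _ (inc t l (Nat.succ c))) = true at h
    simp only [force_eq, band_eq, allL_eq, Nat.ble_eq, Nat.blt_eq, Bool.not_eq_true', ← Bool.not_eq_true (Nat.beq _ _),
      Nat.beq_eq] at h
    obtain ⟨a, c⟩ := ih h.2
    exact ⟨List.forall_mem_cons.2 ⟨h.1, fun m hm => ⟨by have := (a m hm).1; have := h.1.1; omega, (a m hm).2⟩⟩,
      List.pairwise_cons.2 ⟨fun m hm => (a m hm).1, c⟩⟩

theorem cz_c : allL (fun k => eqX [k, 7] [7, k]) [0, 1, 2, 3, 4, 5, 7] = true := by decide +kernel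

theorem y_H {k : ℕ} (h : k < 8 ∧ k ≠ 6) : ι (x k) ∈ Inn G ⊓ centralizer {y 7} := by
  have := eqX_spec ((allL_eq _ _).1 cz_c k (by
    obtain ⟨a, b⟩ := h; interval_cases k <;> simp at b ⊢))
  simp only [ev_cons, ev_nil, mul_one] at this
  exact ⟨⟨_, rfl⟩, mem_centralizer_singleton_iff.2 (by
    change _ * ι (x 7) = ι (x 7) * _
    rw [← map_mul, this, map_mul])⟩

theorem cls_le {t l : List ℕ} (h : inc t l 0 = true) :
    l.length * Nat.card ((Inn G ⊓ centralizer {y 7}) ⊓ centralizer {ι (ev x t)} : Subgroup Y) ≤ 161280 := by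
  obtain ⟨a, b⟩ := inc_spec h
  have := le_of_nodup (Inn G ⊓ centralizer {y 7}) (ι (ev x t)) (l.map fun n => ι (ev x (dec n)))
    (List.forall_mem_map.2 fun n hn => by
      have := (a n hn).2
      generalize dec n = w at this
      induction w with
      | nil => exact map_one ι ▸ one_mem _
      | cons k w ih =>
        rw [ev_cons, map_mul]
        exact mul_mem (y_H (this k List.mem_cons_self)) (ih fun l hl => this l (List.mem_cons_of_mem _ hl)))
    (by
      rw [List.map_map, List.Nodup, List.pairwise_map]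
      refine b.imp fun {m n} c e => c.ne ?_
      have k : ∀ n, ev x (appendL (dec n) (appendL t (invW P.I (dec n)))) =
          ev x (dec n) * ev x t * (ev x (dec n))⁻¹ := fun n => by
        rw [appendL_eq, appendL_eq, ev_append, ev_append, ev_invW link.1.sat.inv, mul_assoc]
      have e1 := ι_inj (a₁ := ev x (dec m) * ev x t * (ev x (dec m))⁻¹)
        (a₂ := ev x (dec n) * ev x t * (ev x (dec n))⁻¹) (by simp only [map_mul, map_inv]; exact e)
      simp only [key, forceL_eq, spc.ptW, ← model.map_ev, k, e1])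
  rwa [List.length_map, card_H] at this

end

end Cfsg.Agent.Wr3.ONM
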