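import Cfsg.Agent.Wr3.Bas
import Cfsg.Agent.Wr2.Z2

/-! The involution `s` and the commuting lifts (copy of `Wr2/Z2`). -/

set_option autoImplicit false
set_option linter.unusedSectionVars false

namespace Cfsg.Agent.Wr3

open Cfsg Subgroup Cfsg.Agent.PLocal Cfsg.Agent.PLocal.Amb Cfsg.Agent.Lyons
open Cfsg.Agent.Wr2 (St Tw Fo Oc Sw')
open Cfsg.Agent.Wr (conj_comm conj_eq_iff conj_sq mem_z conj_conj_of_sq)
open scoped commutatorElement

universe v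

variable {G : Type*} [Group G] [Finite G] {Y : Type*} [Group Y] [Finite Y] {D : Dt Y}
  {A : Subgroup G} {ρ : G → Y} {j : Y → G}

namespace Sy
variable {t : G} (h : Sy D A ρ j t)
include h

/-- PROOF. `y o y⁻¹` centralises `t` (`sw_c`) and `j T`, has odd order, so `ρ (y o y⁻¹) = 1` (`cz`), `odd_O`. -/
theorem y_nO {y : G} (hy : Sw' (j D.z) t y) (c : ∀ a ∈ D.C D.z, y * j a = j a * y) :
    y ∈ 𝐍[Oc A t] :=
  mem_normalizer_of_cj_le (cj_le_iff_forall.2 fun o ho => by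
    have c1 := h.sw_c hy (h.Ot ho) (h.OA ho h.zA).symm
    have od : Odd (orderOf (y * o * y⁻¹)) := by
      rw [orderOf_conj']; exact odd_orderOf (odd_oc _) ho
    have e1 := h.F.cz (ρ (y * o * y⁻¹)) fun a ha => by
      have aY := h.F.sylT.le ha
      have := conj_comm (g := y) (h.OA ho (h.jA a aY)).symm
      rw [conj_eq_iff.2 (c a (h.F.TH ha))] at this
      exact ((h.jcom (h.tN c1) aY).1 this).symm
    refine h.odd_O ((h.st.ker _ (h.tN c1)).1 (Tw.eq_one (Wr2.tw_of_sq ?_) ?_)) c1 od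
    · rcases e1 with e1 | e1 <;> rw [e1]
      exacts [mul_one _, h.F.zz]
    · exact od.of_dvd_nat ((orderOf_map_dvd h.st.hom ⟨_, h.tN c1⟩).trans (orderOf_coe _).symm.dvd))

/-- copy of `Wr2.Sy.exists_s` -/
theorem exists_s {y : G} (hy : Sw' (j D.z) t y) (c : ∀ a ∈ D.C D.z, y * j a = j a * y) :
    ∃ s, s * s = 1 ∧ (∀ a ∈ D.C D.z, s * j a = j a * s) ∧ s * t * s⁻¹ = t * j D.z ∧
      s ∈ 𝐍[Oc A t] := by
  have y2 := hy.2
  have y3 := h.y_nO hy c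
  have zt := h.tA h.zA
  have g2 : y * y * t = t * (y * y) := by
    rw [← conj_eq_iff, show y * y * t * (y * y)⁻¹ = y * (y * t * y⁻¹) * y⁻¹ by group, y2, h.sw_t hy]
  obtain ⟨v, hv, u, hu, o, ho, e1⟩ := h.cenV g2 fun u hu => by
    rw [mul_assoc, c u (h.F.TH hu), ← mul_assoc, c u (h.F.TH hu), mul_assoc]
  obtain ⟨m, hm⟩ := odd_oc (𝐂[A] ⊓ 𝐳[t])
  have v2 : v * u * (v * u) = 1 := by
    rcases hv with rfl | rfl <;> rcases hu with rfl | rfl
    · simp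
    · simpa using h.tt
    · simpa using h.zz
    · rw [mul_assoc, ← mul_assoc u, ← zt, mul_assoc, h.tt, mul_one, h.zz]
  have c' : Commute (v * u) o := Commute.mul_left
    (by rcases hv with rfl | rfl; exacts [Commute.one_left o, h.OA ho h.zA])
    (by rcases hu with rfl | rfl; exacts [Commute.one_left o, (h.Ot ho).symm])
  obtain ⟨s, hs⟩ : ∃ s, s = y ^ (2 * m + 1) := ⟨_, rfl⟩
  have s1 : s * t * s⁻¹ = t * j D.z := by
    have : (y * y) ^ m * t * ((y * y) ^ m)⁻¹ = t :=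
      conj_eq_iff.2 ((show Commute (y * y) t from g2).pow_left m).eq
    rw [hs, pow_succ', pow_mul, sq, show y * (y * y) ^ m * t * (y * (y * y) ^ m)⁻¹ =
      y * ((y * y) ^ m * t * ((y * y) ^ m)⁻¹) * y⁻¹ by group, this, y2]
  have s2 : ∀ a ∈ D.C D.z, s * j a = j a * s := fun a ha =>
    hs ▸ ((show Commute y (j a) from c a ha).pow_left _).eq
  have s3 : s ∈ 𝐍[Oc A t] := hs ▸ pow_mem y3 _
  have s4 : s * s = v * u := by
    rw [hs, ← (Commute.refl y).mul_pow, e1, c'.mul_pow, ← hm, h.Opow ho, mul_one, hm, pow_succ,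
      pow_mul, sq, v2, one_pow, one_mul]
  have sz := s2 _ (h.F.TH h.F.zT)
  rcases hu with rfl | rfl
  · rcases hv with rfl | rfl
    · exact ⟨s, by simpa using s4, s2, s1, s3⟩
    · refine ⟨s * t, ?_, fun a ha => ?_, by rw [← s1]; group, mul_mem s3 (h.nO rfl)⟩
      · calc _ = s * t * s⁻¹ * (s * s) * t := by group
          _ = _ := by rw [s1, s4, mul_one, mul_assoc t, h.zz, mul_one, h.tt]
      · rw [mul_assoc, ← h.tA (h.jA a (mem_inf.1 ha).1), ← mul_assoc, s2 a ha, mul_assoc]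
  · exfalso
    have : s * (v * u) * s⁻¹ = v * u := by rw [← s4]; group
    rw [show s * (v * u) * s⁻¹ = s * v * s⁻¹ * (s * u * s⁻¹) by group, s1, conj_eq_iff.2
      (show s * v = v * s by rcases hv with rfl | rfl; exacts [by simp, sz])] at this
    exact h.z1 (by simpa using this)

/-- copy of `Wr2.Sy.exists_Sz`: with `d, b` from `lin`, `x = s * s^b * s^(b b)` centralises `t` and all
`j c`, `c ∈ C(z) ⊓ C(d)` (such a `c` centralises `z, d, z d`), so `ρ x ∈ Y₀` (`jcom`, `lin`), `decO`. -/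
theorem exists_Sz {y : G} (hy : Sw' (j D.z) t y) (c : ∀ a ∈ D.C D.z, y * j a = j a * y) :
    ∃ s, Sz D A ρ j t s := by
  obtain ⟨s, s1, s2, s3, s4⟩ := h.exists_s hy c
  have sA : ∀ a ∈ A, a * j D.z = j D.z * a → s * a = a * s := fun a ha e => h.jρ ha ▸ s2 _
    (mem_inf.2 ⟨h.st.mem a ha, mem_z.2 ((h.jcom (le_normalizer ha) h.F.zY).1 e)⟩)
  obtain ⟨d, b', bY, dz, b2, b3, hl⟩ := h.F.lin
  have dY : d ∈ D.Y₀ := b2 ▸ mul_mem (mul_mem bY h.F.zY) (inv_mem bY)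
  have hb := h.jA b' bY
  have dA := h.jA d dY
  replace b2 : j b' * j D.z * (j b')⁻¹ = j d := by rw [h.jconj (h.jN bY) h.F.zY, h.ρj b' bY, b2]
  replace b3 : j b' * j d * (j b')⁻¹ = j D.z * j d := by
    rw [h.jconj (h.jN bY) dY, h.ρj b' bY, b3, h.jmul h.F.zY dY]
  replace dz : j d * j D.z = j D.z * j d := by rw [← h.jmul dY h.F.zY, dz, h.jmul h.F.zY dY]
  have dd : j d * j d = 1 := b2 ▸ conj_sq h.zz
  generalize j b' = b at hb b2 b3
  have b4 : b * b * j D.z * (b * b)⁻¹ = j D.z * j d := by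
    rw [show b * b * j D.z * (b * b)⁻¹ = b * (b * j D.z * b⁻¹) * b⁻¹ by group, b2, b3]
  have b0 : 1 * j D.z * 1⁻¹ = j D.z := by simp
  have cW : ∀ c ∈ A, ∀ w ∈ A, w * (c * j D.z * c⁻¹) = c * j D.z * c⁻¹ * w →
      c * s * c⁻¹ * w * (c * s * c⁻¹)⁻¹ = w := by
    intro c hc w hw e
    have e1 := conj_comm (g := c⁻¹) e
    rw [show c⁻¹ * (c * j D.z * c⁻¹) * c⁻¹⁻¹ = j D.z by group] at e1
    rw [show c * s * c⁻¹ * w * (c * s * c⁻¹)⁻¹ = c * (s * (c⁻¹ * w * c⁻¹⁻¹) * s⁻¹) * c⁻¹ by group,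
      conj_eq_iff.2 (sA _ (mul_mem (mul_mem (inv_mem hc) hw) (inv_mem (inv_mem hc))) e1)]
    group
  have ct : ∀ c ∈ A, c * s * c⁻¹ * t * (c * s * c⁻¹)⁻¹ = t * (c * j D.z * c⁻¹) := fun c hc => by
    rw [show c * s * c⁻¹ * t * (c * s * c⁻¹)⁻¹ = c * (s * (c⁻¹ * t * c⁻¹⁻¹) * s⁻¹) * c⁻¹ by group,
      conj_eq_iff.2 (h.tA (inv_mem hc)), s3, ← mul_assoc, h.tA hc]; group
  have cO : ∀ c ∈ A, ∀ o ∈ Oc A t, c * s * c⁻¹ * o * (c * s * c⁻¹)⁻¹ = s * o * s⁻¹ := by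
    intro c hc o ho
    rw [show c * s * c⁻¹ * o * (c * s * c⁻¹)⁻¹ = c * (s * (c⁻¹ * o * c⁻¹⁻¹) * s⁻¹) * c⁻¹ by group,
      conj_eq_iff.2 (h.OA ho (inv_mem hc)),
      conj_eq_iff.2 (h.OA (conj_mem_of_mem_normalizer s4 ho) hc)]
  have cj3 : ∀ p q r x : G, p * q * r * x * (p * q * r)⁻¹ = p * (q * (r * x * r⁻¹) * q⁻¹) * p⁻¹ :=
    fun p q r x => by group
  have cm : ∀ p x y : G, p * (x * y) * p⁻¹ = p * x * p⁻¹ * (p * y * p⁻¹) := fun p x y => by group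
  obtain ⟨x, hx⟩ : ∃ x, x = 1 * s * 1⁻¹ * (b * s * b⁻¹) * (b * b * s * (b * b)⁻¹) := ⟨_, rfl⟩
  have e0 : j d * (j D.z * j d) = j D.z := by rw [← mul_assoc, dz, mul_assoc, dd, mul_one]
  have x1 : x * t = t * x := by
    rw [← conj_eq_iff, hx, cj3, ct _ (mul_mem hb hb), b4, cm (b * s * b⁻¹), ct b hb,
      cW b hb _ (mul_mem h.zA dA) (by rw [b2, e0, mul_assoc, dd, mul_one]), b2, mul_assoc t, e0, cm _ t,
      ct 1 (one_mem _), cW 1 (one_mem _) _ h.zA (by rw [b0]), b0, mul_assoc, h.zz, mul_one]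
  have e1 : ρ x ∈ D.Y₀ := hl _ fun a ha e => by
    have aY := (mem_inf.1 ha).1
    have c1 : j a * j D.z = j D.z * j a := by
      rw [← h.jmul aY h.F.zY, mem_z.1 (mem_inf.1 ha).2, h.jmul h.F.zY aY]
    have c2 : j a * j d = j d * j a := by rw [← h.jmul aY dY, e, h.jmul dY aY]
    refine ((h.jcom (h.tN x1) aY).1 ?_).symm
    rw [← conj_eq_iff, hx, cj3, cW _ (mul_mem hb hb) _ (h.jA a aY) (by
      rw [b4, ← mul_assoc, c1, mul_assoc, c2, mul_assoc]), cW b hb _ (h.jA a aY) (by rw [b2, c2]),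
      cW 1 (one_mem _) _ (h.jA a aY) (by rw [b0, c1])]
  obtain ⟨v, hv, p, hp, e2⟩ := h.decO x1 (h.jA _ e1) (h.ρj _ e1).symm
  have e3 : ∀ o ∈ Oc A t, s * o * s⁻¹ = p * o * p⁻¹ := fun o ho => by
    have m := mul_mem (mul_mem hp ho) (inv_mem hp)
    have : x * o * x⁻¹ = p * o * p⁻¹ := by
      rw [e2, cj3, conj_eq_iff.2 (show v * (p * o * p⁻¹) = p * o * p⁻¹ * v by
        rcases hv with rfl | rfl; exacts [by simp, (h.Ot m).symm]), conj_eq_iff.2 (h.OA m (h.jA _ e1))]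
    rw [← this, hx, cj3, cO _ (mul_mem hb hb) o ho, cO b hb _ (conj_mem_of_mem_normalizer s4 ho),
      conj_conj_of_sq s1 rfl, cO 1 (one_mem _) o ho]
  have sO : ∀ o ∈ Oc A t, s * o = o * s := fun o ho => by
    have e4 : p * p * o = o * (p * p) := by
      rw [← conj_eq_iff, show p * p * o * (p * p)⁻¹ = p * (p * o * p⁻¹) * p⁻¹ by group,
        ← e3 _ (mul_mem (mul_mem hp ho) (inv_mem hp)), ← e3 o ho, conj_conj_of_sq s1 rfl]
    rw [← conj_eq_iff, e3 o ho, conj_eq_iff, ← mem_z]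
    exact mem_of_odd_of_pow (odd_orderOf (odd_oc _) hp) (k := 1) (by
      rw [pow_one, sq]; exact mem_z.2 e4)
  exact ⟨s, h, s1, s3, sA, sO⟩

/-- PROOF. As in `Wr2.Sz.Ct`: `s s'` centralises `t` and `j T`, `cenV` gives `s' = s (v u) o`; `s'` is an
involution and `s` centralises `O`, so `o = 1`, `u = 1`. -/
theorem uniq {s s' : G} (s1 : s * s = 1) (s2 : s * t * s⁻¹ = t * j D.z)
    (s3 : ∀ a ∈ D.T, s * j a = j a * s) (s4 : ∀ o ∈ Oc A t, s * o = o * s) (r1 : s' * s' = 1)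
    (r2 : s' * t * s'⁻¹ = t * j D.z) (r3 : ∀ a ∈ D.T, s' * j a = j a * s') :
    s' = s ∨ s' = s * j D.z := by
  have zt := h.tA h.zA
  have sz := s3 _ h.F.zT
  have tst : t * s * t⁻¹ = s * j D.z := by
    calc _ = s * (s * s)⁻¹ * (s * t * s⁻¹) * (s * s) * t⁻¹ := by group
      _ = _ := by rw [s1, s2, ← zt]; group
  obtain ⟨v, hv, u, hu, o, ho, e3⟩ := h.cenV (x := s * s') (by
    rw [← conj_eq_iff, show s * s' * t * (s * s')⁻¹ = s * (s' * t * s'⁻¹) * s⁻¹ by group, r2,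
      h.sw_t ⟨sz, s2⟩]) fun u hu => by rw [mul_assoc, r3 u hu, ← mul_assoc, s3 u hu, mul_assoc]
  replace e3 : s' = s * (v * u) * o := by rw [mul_assoc s, ← e3, ← mul_assoc, s1, one_mul]
  have c : Commute (s * (v * u)) o := Commute.mul_left (s4 o ho) (Commute.mul_left
    (by rcases hv with rfl | rfl; exacts [Commute.one_left o, h.OA ho h.zA])
    (by rcases hu with rfl | rfl; exacts [Commute.one_left o, (h.Ot ho).symm]))
  have e4 : (s * (v * u)) ^ 2 * o ^ 2 = 1 := by rw [← c.mul_pow, ← e3, sq, r1]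
  have q1 : s * v * (s * v) = 1 := by
    rcases hv with rfl | rfl
    · simpa using s1
    · rw [mul_assoc, ← mul_assoc _ s, ← sz, mul_assoc, h.zz, mul_one, s1]
  rcases hu with rfl | rfl
  · rw [mul_one, sq, q1, one_mul, sq] at e4
    rw [(Wr2.tw_of_sq e4).eq_one (odd_orderOf (odd_oc _) ho), mul_one, mul_one] at e3
    exact hv.imp (fun e => by rw [e3, e, mul_one]) fun e => by rw [e3, e]
  · exfalso
    have q2 : (s * (v * u)) ^ 2 = j D.z := by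
      have c1 : v * u = u * v := by rcases hv with rfl | rfl; exacts [by simp, zt]
      calc _ = s * v * (u * s * u⁻¹) * (u * v) * u := by rw [sq]; group
        _ = s * v * (s * v) * (v⁻¹ * j D.z * v) * (u * u) := by rw [tst, ← c1]; group
        _ = _ := by rw [q1, h.tt]; rcases hv with rfl | rfl <;> simp
    rw [q2, mul_eq_one_iff_eq_inv] at e4
    exact h.z1 ((Wr2.tw_of_sq h.zz).eq_one (e4 ▸ odd_orderOf (odd_oc _) (inv_mem (pow_mem ho 2))))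

end Sy

namespace Sz
variable {t s : G} (h : Sz D A ρ j t s)
include h

theorem Mt {m : G} (hm : m ∈ Wr2.Mc A (j D.z) t s) : m * t = t * m :=
  mem_z.1 ((sup_le (fun _ ha => mem_z.2 (h.tA ha)) (inf_le_left.trans inf_le_left) : _ ≤ 𝐳[t]) hm)
theorem MN {m : G} (hm : m ∈ Wr2.Mc A (j D.z) t s) : m ∈ 𝐍[A] := h.tN (h.Mt hm)
theorem Mdec {m : G} (hm : m ∈ Wr2.Mc A (j D.z) t s) :
    ∃ a ∈ A, ∃ c, c * j D.z = j D.z * c ∧ c * s = s * c ∧ m = a * c := by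
  obtain ⟨a, ha, c, hc, rfl⟩ := (mem_sup_of_le_normalizer_left fun _ hx =>
    h.MN (mem_sup_right hx)).1 hm
  exact ⟨a, ha, c, mem_z.1 (mem_inf.1 (mem_inf.1 hc).1).2, mem_z.1 (mem_inf.1 hc).2, rfl⟩
theorem Ms {m : G} (hm : m ∈ Wr2.Mc A (j D.z) t s) (e1 : m * j D.z = j D.z * m) :
    m * s = s * m := by
  obtain ⟨a, ha, c, c1, c2, rfl⟩ := h.Mdec hm
  rw [mul_assoc, c1, ← mul_assoc, ← mul_assoc] at e1
  rw [mul_assoc, c2, ← mul_assoc, ← h.sA a ha (mul_right_cancel e1), mul_assoc]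
theorem OM {o : G} (ho : o ∈ Oc A t) : o ∈ Wr2.Mc A (j D.z) t s :=
  mem_sup_right (mem_inf.2 ⟨mem_inf.2 ⟨mem_z.2 (h.Ot ho), mem_z.2 (h.OA ho h.zA).symm⟩,
    mem_z.2 (h.sO o ho).symm⟩)
theorem tM : t ∉ Wr2.Mc A (j D.z) t s := fun e1 => h.z1 (by
  have := h.sw
  rw [conj_eq_iff.2 (h.Ms e1 (h.tA h.zA).symm).symm] at this
  simpa using this)
theorem MK {m : G} (hm : m ∈ Wr2.Mc A (j D.z) t s) (hk : m ∈ 𝐂[A]) : m ∈ Oc A t :=
  (h.Kt hk (h.Mt hm)).resolve_right fun e1 => h.tM ((mul_mem_cancel_left hm).1 (h.OM e1))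
theorem tst : t * s * t⁻¹ = s * j D.z := by
  calc _ = s * (s * s)⁻¹ * (s * t * s⁻¹) * (s * s) * t⁻¹ := by group
    _ = _ := by rw [h.ss, h.sw, ← h.tA h.zA]; group
/-- `Bs.cjz` replaces `cls`; `uniq` for `x s x⁻¹` -/
theorem Ct {x : G} (e1 : x * t = t * x) :
    x ∈ Wr2.Mc A (j D.z) t s ∨ x * t ∈ Wr2.Mc A (j D.z) t s := by
  obtain ⟨k, hk, e2⟩ := h.F.cjz (ρ x)
  have hb := h.jA k hk
  replace e2 : j k * j D.z * (j k)⁻¹ = x * j D.z * x⁻¹ := by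
    rw [h.jconj (h.jN hk) h.F.zY, h.ρj k hk, e2, h.jconj (h.tN e1) h.F.zY]
  generalize j k = b at hb e2
  have b1 : b ∈ Wr2.Mc A (j D.z) t s := mem_sup_left hb
  rw [← mul_mem_cancel_left (inv_mem b1), ← mul_mem_cancel_left (inv_mem b1) (y := x * t), ← mul_assoc]
  replace e2 : b⁻¹ * x * j D.z = j D.z * (b⁻¹ * x) := by
    rw [← conj_eq_iff, show b⁻¹ * x * j D.z * (b⁻¹ * x)⁻¹ = b⁻¹ * (x * j D.z * x⁻¹) * b by group,
      ← e2]; group
  replace e1 : b⁻¹ * x * t = t * (b⁻¹ * x) := by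
    rw [mul_assoc, e1, ← mul_assoc, h.tA (inv_mem hb), mul_assoc]
  generalize b⁻¹ * x = x at e1 e2
  have zt := h.tA h.zA
  have i1 : x⁻¹ * t = t * x⁻¹ := (show Commute x t from e1).inv_left.eq
  have i2 : x⁻¹ * j D.z = j D.z * x⁻¹ := (show Commute x _ from e2).inv_left.eq
  have zc : ∀ a ∈ D.T, j a * j D.z = j D.z * j a := fun a ha => by
    rw [← h.jmul (h.F.sylT.le ha) h.F.zY, h.F.zc a ha, h.jmul h.F.zY (h.F.sylT.le ha)]
  rcases h.uniq (s' := x * s * x⁻¹) h.ss h.sw (fun a ha => h.sA _ (h.jA a (h.F.sylT.le ha)) (zc a ha)) h.sO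
    (conj_sq h.ss) (by
      rw [show x * s * x⁻¹ * t * (x * s * x⁻¹)⁻¹ = x * (s * (x⁻¹ * t * x⁻¹⁻¹) * s⁻¹) * x⁻¹ by group,
        conj_eq_iff.2 i1, h.sw, conj_eq_iff, ← mul_assoc, e1, mul_assoc, e2, mul_assoc]) (fun u hu => by
      have := h.sA _ (conj_mem_of_mem_normalizer (h.tN i1) (h.jA u (h.F.sylT.le hu))) (by
        have := conj_comm (g := x⁻¹) (zc u hu); rwa [conj_eq_iff.2 i2] at this)
      have := conj_comm (g := x) this
      rwa [show x * (x⁻¹ * j u * x⁻¹⁻¹) * x⁻¹ = j u by group] at this) with e3 | e3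
  · exact Or.inl (mem_sup_right (mem_inf.2 ⟨mem_inf.2 ⟨mem_z.2 e1, mem_z.2 e2⟩,
      mem_z.2 (conj_eq_iff.1 e3)⟩))
  · refine Or.inr (mem_sup_right (mem_inf.2 ⟨mem_inf.2 ⟨mem_z.2 (by rw [← mul_assoc, e1]),
      mem_z.2 (by rw [mul_assoc, ← zt, ← mul_assoc, e2, mul_assoc])⟩,
      mem_z.2 (conj_eq_iff.1 ?_)⟩))
    rw [show x * t * s * (x * t)⁻¹ = x * (t * s * t⁻¹) * x⁻¹ by group, h.tst,
      show x * (s * j D.z) * x⁻¹ = x * s * x⁻¹ * (x * j D.z * x⁻¹) by group, e3,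
      conj_eq_iff.2 e2, mul_assoc, h.zz, mul_one]

end Sz

end Cfsg.Agent.Wr3
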